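import Mathlib
import Cfsg.Prelude.Def_Characters
import Cfsg.Prelude.Def_ParabolicCharacters
import Cfsg.Agent.Characters.Core
import Cfsg.Agent.H984.EigCount

/-!
# The functions induced from the Borel subgroup of `SL₂` over a finite field
-/

set_option autoImplicit false
set_option linter.unusedSectionVars false

namespace Cfsg.Agent.H984.SLTwo

open Matrix Cfsg Cfsg.Agent.H984.EigCount
open scoped ComplexConjugate

variable {F : Type*} [Field F]

/-- The group. -/
local notation "SL" => Matrix.SpecialLinearGroup (Fin 2) F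

/-- The upper triangular subgroup of `SL₂`. -/
abbrev Bor (F : Type*) [Field F] : Subgroup (Matrix.SpecialLinearGroup (Fin 2) F) :=
  (Cfsg.upperTriangularGL 2 F).comap Matrix.SpecialLinearGroup.toGL

theorem mem_Bor {g : SL} : g ∈ Bor F ↔ (g : Matrix (Fin 2) (Fin 2) F) 1 0 = 0 := by
  constructor
  · intro h
    exact h (i := 1) (j := 0) (by decide)
  · intro h i j hij
    fin_cases i <;> fin_cases j <;> simp_all

theorem det_eq (g : SL) : (g : Matrix (Fin 2) (Fin 2) F) 0 0 * (g : Matrix (Fin 2) (Fin 2) F) 1 1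
    - (g : Matrix (Fin 2) (Fin 2) F) 0 1 * (g : Matrix (Fin 2) (Fin 2) F) 1 0 = 1 := by
  have := g.2
  rwa [Matrix.det_fin_two] at this

/-- the first column -/
def col (x : SL) : Fin 2 → F := fun i => (x : Matrix (Fin 2) (Fin 2) F) i 0

theorem col_ne_zero (x : SL) : col x ≠ 0 := by
  intro h
  have h0 : (x : Matrix (Fin 2) (Fin 2) F) 0 0 = 0 := congrFun h 0
  have h1 : (x : Matrix (Fin 2) (Fin 2) F) 1 0 = 0 := congrFun h 1
  have := det_eq x
  rw [h0, h1] at this
  simp at this

/-- `x⁻¹ g x` maps `e₀` to `c e₀` iff `g` maps the first column of `x` to `c` times itself. -/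
theorem conj_col (x g : SL) (c : F) :
    (((x⁻¹ * g * x : SL) : Matrix (Fin 2) (Fin 2) F) 1 0 = 0 ∧
      ((x⁻¹ * g * x : SL) : Matrix (Fin 2) (Fin 2) F) 0 0 = c) ↔
      (g : Matrix (Fin 2) (Fin 2) F) *ᵥ (col x) = c • col x := by
  have key : ((x * (x⁻¹ * g * x) : SL) : Matrix (Fin 2) (Fin 2) F) = ((g * x : SL) : Matrix (Fin 2) (Fin 2) F) := by
    congr 1; rw [mul_assoc, mul_inv_cancel_left]
  set y := x⁻¹ * g * x with hy
  have e0 := congrFun (congrFun key 0) 0
  have e1 := congrFun (congrFun key 1) 0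
  simp only [Matrix.SpecialLinearGroup.coe_mul, Matrix.mul_apply, Fin.sum_univ_two] at e0 e1
  constructor
  · rintro ⟨h1, h2⟩
    rw [h1, h2] at e0 e1
    ext i
    fin_cases i
    · simp only [Matrix.mulVec, dotProduct, Fin.sum_univ_two, col, Pi.smul_apply, smul_eq_mul, Fin.zero_eta]
      linear_combination -e0
    · simp only [Matrix.mulVec, dotProduct, Fin.sum_univ_two, col, Pi.smul_apply, smul_eq_mul, Fin.mk_one]
      linear_combination -e1
  · intro h
    have h0 := congrFun h 0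
    have h1 := congrFun h 1
    simp only [Matrix.mulVec, dotProduct, Fin.sum_univ_two, col, Pi.smul_apply, smul_eq_mul] at h0 h1
    have hd := det_eq x
    constructor
    · -- x * (y 0 0 - c, y 1 0) = 0
      linear_combination (-(y : Matrix (Fin 2) (Fin 2) F) 1 0) * hd + (x : Matrix (Fin 2) (Fin 2) F) 0 0 * (e1 + h1) - (x : Matrix (Fin 2) (Fin 2) F) 1 0 * (e0 + h0)
    · linear_combination (-((y : Matrix (Fin 2) (Fin 2) F) 0 0 - c)) * hd + (x : Matrix (Fin 2) (Fin 2) F) 1 1 * (e0 + h0) - (x : Matrix (Fin 2) (Fin 2) F) 0 1 * (e1 + h1)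

variable [DecidableEq F]

/-- the matrix of an element of `SL₂` with given nonzero first column, and a parameter. -/
def withColM (v : Fin 2 → F) (t : F) : Matrix (Fin 2) (Fin 2) F :=
  if v 0 = 0 then !![0, -(v 1)⁻¹; v 1, t] else !![v 0, t; v 1, (1 + t * v 1) * (v 0)⁻¹]

/-- an element of `SL₂` with given nonzero first column, and a parameter. -/
def withCol (v : Fin 2 → F) (hv : v ≠ 0) (t : F) : SL :=
  ⟨withColM v t, by
    unfold withColM
    split_ifs with h
    · have h1 : v 1 ≠ 0 := fun h1 => hv (by ext i; fin_cases i <;> simp_all)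
      simp [Matrix.det_fin_two, h1]
    · simp only [Matrix.det_fin_two_of]; field_simp; ring⟩

theorem coe_withCol (v : Fin 2 → F) (hv : v ≠ 0) (t : F) :
    (withCol v hv t : Matrix (Fin 2) (Fin 2) F) = withColM v t := rfl

theorem col_withCol (v : Fin 2 → F) (hv : v ≠ 0) (t : F) : col (withCol v hv t) = v := by
  unfold col
  rw [coe_withCol]
  unfold withColM
  split_ifs with h
  · ext i; fin_cases i <;> simp [h]
  · ext i; fin_cases i <;> simp

theorem card_col_fiber [Fintype F] (v : Fin 2 → F) (hv : v ≠ 0) :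
    (Finset.univ.filter (fun x : SL => col x = v)).card = Fintype.card F := by
  rw [← Finset.card_univ]
  symm
  refine Finset.card_bij (fun t _ => withCol v hv t) ?_ ?_ ?_
  · intro t _
    simp only [Finset.mem_filter, Finset.mem_univ, true_and]
    exact col_withCol v hv t
  · intro s _ t _ h
    have h' : withColM v s = withColM v t := congrArg (fun g : SL => (g : Matrix (Fin 2) (Fin 2) F)) h
    unfold withColM at h'
    split_ifs at h' with h0
    · have := congrFun (congrFun h' 1) 1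
      simpa using this
    · have := congrFun (congrFun h' 0) 1
      simpa using this
  · intro x hx
    simp only [Finset.mem_filter, Finset.mem_univ, true_and] at hx
    have hx0 : (x : Matrix (Fin 2) (Fin 2) F) 0 0 = v 0 := congrFun hx 0
    have hx1 : (x : Matrix (Fin 2) (Fin 2) F) 1 0 = v 1 := congrFun hx 1
    have hd := det_eq x
    rw [hx0, hx1] at hd
    by_cases h0 : v 0 = 0
    · refine ⟨(x : Matrix (Fin 2) (Fin 2) F) 1 1, Finset.mem_univ _, ?_⟩
      have h1 : v 1 ≠ 0 := fun h1 => hv (by ext i; fin_cases i <;> simp_all)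
      have h2 : (x : Matrix (Fin 2) (Fin 2) F) 0 1 = -(v 1)⁻¹ := by
        rw [h0] at hd
        field_simp
        linear_combination -hd
      apply Matrix.SpecialLinearGroup.ext
      intro i j
      rw [coe_withCol]
      unfold withColM
      rw [if_pos h0]
      fin_cases i <;> fin_cases j <;> simp [hx0, hx1, h0, h2]
    · refine ⟨(x : Matrix (Fin 2) (Fin 2) F) 0 1, Finset.mem_univ _, ?_⟩
      apply Matrix.SpecialLinearGroup.ext
      intro i j
      rw [coe_withCol]
      unfold withColM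
      rw [if_neg h0]
      fin_cases i <;> fin_cases j <;> simp [hx0, hx1]
      field_simp
      linear_combination -hd

/-- Summing over `SL₂` a function of the first column. -/
theorem sum_col [Fintype F] {M : Type*} [AddCommMonoid M] (f : (Fin 2 → F) → M) :
    ∑ x : SL, f (col x) = ∑ v ∈ Finset.univ.filter (fun v : Fin 2 → F => v ≠ 0), Fintype.card F • f v := by
  rw [← Finset.sum_fiberwise_of_maps_to (s := (Finset.univ : Finset SL))
    (t := Finset.univ.filter (fun v : Fin 2 → F => v ≠ 0)) (g := col)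
    (fun x _ => by simpa using col_ne_zero x)]
  refine Finset.sum_congr rfl fun v hv => ?_
  rw [Finset.sum_congr rfl (g := fun _ => f v) (fun x hx => by rw [(Finset.mem_filter.mp hx).2]),
    Finset.sum_const, card_col_fiber v (Finset.mem_filter.mp hv).2]

/-- the element `diag(a, a⁻¹) * (1 x; 0 1)`-like: upper triangular with entries `a`, `x`. -/
def upp (a : Fˣ) (x : F) : SL :=
  ⟨!![(a : F), x; 0, ((a⁻¹ : Fˣ) : F)], by simp [Matrix.det_fin_two_of]⟩

theorem coe_upp (a : Fˣ) (x : F) :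
    (upp a x : Matrix (Fin 2) (Fin 2) F) = !![(a : F), x; 0, ((a⁻¹ : Fˣ) : F)] := rfl

theorem upp_mem (a : Fˣ) (x : F) : upp a x ∈ Bor F := by
  rw [mem_Bor, coe_upp]; simp

theorem upp_inj {a b : Fˣ} {x y : F} (h : upp a x = upp b y) : a = b ∧ x = y := by
  have h' : (upp a x : Matrix (Fin 2) (Fin 2) F) = upp b y := congrArg _ h
  rw [coe_upp, coe_upp] at h'
  have h0 := congrFun (congrFun h' 0) 0
  have h1 := congrFun (congrFun h' 0) 1
  simp at h0 h1
  exact ⟨Units.ext h0, h1⟩

theorem ne_zero_of_mem_Bor {g : SL} (hg : g ∈ Bor F) : (g : Matrix (Fin 2) (Fin 2) F) 0 0 ≠ 0 := by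
  intro h
  have := det_eq g
  rw [mem_Bor.mp hg, h] at this
  simp at this

theorem exists_upp {g : SL} (hg : g ∈ Bor F) :
    g = upp (Units.mk0 _ (ne_zero_of_mem_Bor hg)) ((g : Matrix (Fin 2) (Fin 2) F) 0 1) := by
  have h := det_eq g
  have h0 := ne_zero_of_mem_Bor hg
  apply Matrix.SpecialLinearGroup.ext
  intro i j
  rw [coe_upp]
  have h10 := mem_Bor.mp hg
  rw [h10] at h
  fin_cases i <;> fin_cases j <;> simp [h10]
  field_simp
  linear_combination h

/-- The Borel subgroup is parametrised by `Fˣ × F`. -/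
noncomputable def borEquiv : Fˣ × F ≃ Bor F :=
  Equiv.ofBijective (fun p => ⟨upp p.1 p.2, upp_mem p.1 p.2⟩) ⟨by
    rintro ⟨a, x⟩ ⟨b, y⟩ h
    have := upp_inj (congrArg Subtype.val h)
    exact Prod.ext this.1 this.2, by
    rintro ⟨g, hg⟩
    exact ⟨(_, _), Subtype.ext (exists_upp hg).symm⟩⟩

theorem coe_borEquiv (p : Fˣ × F) : ((borEquiv p : Bor F) : SL) = upp p.1 p.2 := rfl

theorem card_Bor [Fintype F] : Nat.card (Bor F) = (Fintype.card F - 1) * Fintype.card F := by
  rw [← Nat.card_congr (borEquiv (F := F)), Nat.card_prod, Nat.card_eq_fintype_card,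
    Nat.card_eq_fintype_card, Fintype.card_units]

/-- The function induced from `b ↦ α (b 0 0)` on the Borel subgroup. -/
noncomputable def R [Fintype F] (α : MulChar F ℂ) : SL → ℂ :=
  Cfsg.indFun (Bor F) (fun b => α (((b : SL) : Matrix (Fin 2) (Fin 2) F) 0 0))

theorem ext_eq [Fintype F] (f : F → ℂ) (x g : SL) :
    Cfsg.extendByZero (Bor F) (fun b => f (((b : SL) : Matrix (Fin 2) (Fin 2) F) 0 0)) (x⁻¹ * g * x)
      = ∑ c : F, if (g : Matrix (Fin 2) (Fin 2) F) *ᵥ (col x) = c • col x then f c else 0 := by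
  by_cases h : x⁻¹ * g * x ∈ Bor F
  · rw [Cfsg.Agent.Characters.Core.extendByZero_of_mem _ _ h]
    have h1 := (conj_col x g _).mp ⟨mem_Bor.mp h, rfl⟩
    rw [Finset.sum_eq_single (((x⁻¹ * g * x : SL) : Matrix (Fin 2) (Fin 2) F) 0 0)]
    · rw [if_pos h1]
    · intro c _ hc
      rw [if_neg]
      intro h2
      exact hc ((conj_col x g c).mpr h2).2.symm
    · intro h; exact absurd (Finset.mem_univ _) h
  · rw [Cfsg.Agent.Characters.Core.extendByZero_of_notMem _ _ h]
    symm
    apply Finset.sum_eq_zero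
    intro c _
    rw [if_neg]
    intro h2
    exact h (mem_Bor.mpr ((conj_col x g c).mpr h2).1)

/-- General formula for a function of the upper left entry induced from the Borel subgroup. -/
theorem ind_apply [Fintype F] (f : F → ℂ) (g : SL) :
    Cfsg.indFun (Bor F) (fun b => f (((b : SL) : Matrix (Fin 2) (Fin 2) F) 0 0)) g =
      ((Fintype.card F : ℂ) - 1)⁻¹ * ∑ c : F, (E (g : Matrix (Fin 2) (Fin 2) F) c : ℂ) * f c := by
  rw [Cfsg.Agent.Characters.Core.indFun_apply]
  simp_rw [ext_eq]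
  rw [sum_col (fun v => ∑ c : F, if (g : Matrix (Fin 2) (Fin 2) F) *ᵥ v = c • v then f c else 0),
    card_Bor]
  have hq : (1 : ℕ) ≤ Fintype.card F := Fintype.card_pos
  have hq0 : (Fintype.card F : ℂ) ≠ 0 := by
    exact_mod_cast (Fintype.card_pos (α := F)).ne'
  rw [← Finset.smul_sum, Finset.sum_comm]
  push_cast [Nat.cast_sub hq]
  rw [mul_inv, nsmul_eq_mul, mul_assoc, inv_mul_cancel_left₀ hq0]
  congr 1
  refine Finset.sum_congr rfl fun c _ => ?_
  rw [← Finset.sum_filter, Finset.filter_filter, Finset.sum_const, E, nsmul_eq_mul]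

theorem R_apply [Fintype F] (α : MulChar F ℂ) (g : SL) :
    R α g = ((Fintype.card F : ℂ) - 1)⁻¹ * ∑ c : F, (E (g : Matrix (Fin 2) (Fin 2) F) c : ℂ) * α c :=
  ind_apply (fun c => α c) g

theorem two_le_card [Fintype F] : 2 ≤ Fintype.card F := Fintype.one_lt_card

theorem card_sub_one_ne [Fintype F] : (Fintype.card F : ℂ) - 1 ≠ 0 := by
  have h := two_le_card (F := F)
  have : (Fintype.card F : ℂ) - 1 = ((Fintype.card F - 1 : ℕ) : ℂ) := by
    push_cast [Nat.cast_sub (show 1 ≤ Fintype.card F by omega)]; rfl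
  rw [this]
  exact_mod_cast (by omega : Fintype.card F - 1 ≠ 0)

theorem cast_card_sub_one [Fintype F] : ((Fintype.card F - 1 : ℕ) : ℂ) = (Fintype.card F : ℂ) - 1 := by
  have h := two_le_card (F := F)
  push_cast [Nat.cast_sub (show 1 ≤ Fintype.card F by omega)]; rfl

theorem ind_scalar [Fintype F] (f : F → ℂ) (g : SL) (h01 : (g : Matrix (Fin 2) (Fin 2) F) 0 1 = 0)
    (h10 : (g : Matrix (Fin 2) (Fin 2) F) 1 0 = 0)
    (h : (g : Matrix (Fin 2) (Fin 2) F) 0 0 = (g : Matrix (Fin 2) (Fin 2) F) 1 1) :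
    Cfsg.indFun (Bor F) (fun b => f (((b : SL) : Matrix (Fin 2) (Fin 2) F) 0 0)) g =
      ((Fintype.card F : ℂ) + 1) * f ((g : Matrix (Fin 2) (Fin 2) F) 0 0) := by
  rw [ind_apply]
  have hq := two_le_card (F := F)
  simp_rw [E_scalar _ h01 h10 h]
  push_cast
  simp only [ite_mul, zero_mul, Finset.sum_ite_eq', Finset.mem_univ, if_true]
  have : ((Fintype.card F ^ 2 - 1 : ℕ) : ℂ) = ((Fintype.card F : ℂ) - 1) * ((Fintype.card F : ℂ) + 1) := by
    rw [Nat.cast_sub (Nat.one_le_pow _ _ (by omega))]; push_cast; ring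
  rw [this, mul_assoc, inv_mul_cancel_left₀ card_sub_one_ne]

theorem ind_unip [Fintype F] (f : F → ℂ) (g : SL) (h01 : (g : Matrix (Fin 2) (Fin 2) F) 0 1 ≠ 0)
    (h10 : (g : Matrix (Fin 2) (Fin 2) F) 1 0 = 0)
    (h : (g : Matrix (Fin 2) (Fin 2) F) 0 0 = (g : Matrix (Fin 2) (Fin 2) F) 1 1) :
    Cfsg.indFun (Bor F) (fun b => f (((b : SL) : Matrix (Fin 2) (Fin 2) F) 0 0)) g =
      f ((g : Matrix (Fin 2) (Fin 2) F) 0 0) := by
  rw [ind_apply]
  simp_rw [E_unip _ h01 h10 h]
  simp only [Nat.cast_ite, ite_mul, Nat.cast_zero, zero_mul, Finset.sum_ite_eq', Finset.mem_univ, if_true]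
  rw [cast_card_sub_one, inv_mul_cancel_left₀ card_sub_one_ne]

theorem ind_split [Fintype F] (f : F → ℂ) (g : SL)
    (h10 : (g : Matrix (Fin 2) (Fin 2) F) 1 0 = 0)
    (h : (g : Matrix (Fin 2) (Fin 2) F) 0 0 ≠ (g : Matrix (Fin 2) (Fin 2) F) 1 1) :
    Cfsg.indFun (Bor F) (fun b => f (((b : SL) : Matrix (Fin 2) (Fin 2) F) 0 0)) g =
      f ((g : Matrix (Fin 2) (Fin 2) F) 0 0) + f ((g : Matrix (Fin 2) (Fin 2) F) 1 1) := by
  rw [ind_apply]
  have key : ∀ c : F, (E (g : Matrix (Fin 2) (Fin 2) F) c : ℂ) * f c =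
      (if c = (g : Matrix (Fin 2) (Fin 2) F) 0 0 then ((Fintype.card F : ℂ) - 1) * f c else 0) +
      (if c = (g : Matrix (Fin 2) (Fin 2) F) 1 1 then ((Fintype.card F : ℂ) - 1) * f c else 0) := by
    intro c
    rw [E_split _ h10 h]
    by_cases h1 : c = (g : Matrix (Fin 2) (Fin 2) F) 0 0
    · have h2 : c ≠ (g : Matrix (Fin 2) (Fin 2) F) 1 1 := fun h2 => h (h1.symm.trans h2)
      rw [if_pos h1, if_pos h1, if_neg h2, cast_card_sub_one, add_zero]
    · rw [if_neg h1, if_neg h1]
      by_cases h2 : c = (g : Matrix (Fin 2) (Fin 2) F) 1 1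
      · rw [if_pos h2, if_pos h2, cast_card_sub_one, zero_add]
      · rw [if_neg h2, if_neg h2, Nat.cast_zero, zero_mul, add_zero]
  simp_rw [key]
  rw [Finset.sum_add_distrib, Finset.sum_ite_eq', Finset.sum_ite_eq', if_pos (Finset.mem_univ _),
    if_pos (Finset.mem_univ _), ← mul_add, inv_mul_cancel_left₀ card_sub_one_ne]

theorem ind_ell [Fintype F] (f : F → ℂ) (g : SL)
    (h : ∀ (c : F) (v : Fin 2 → F), v ≠ 0 → (g : Matrix (Fin 2) (Fin 2) F).mulVec v ≠ c • v) :
    Cfsg.indFun (Bor F) (fun b => f (((b : SL) : Matrix (Fin 2) (Fin 2) F) 0 0)) g = 0 := by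
  rw [ind_apply]
  simp_rw [E_ell _ h]
  simp

end Cfsg.Agent.H984.SLTwo
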