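import Cfsg.Agent.H984.SLInd
import Cfsg.Agent.CharactersDeep.NormalInd

/-!
# Inner products with the functions induced from the Borel subgroup of `SL₂`
-/

set_option autoImplicit false
set_option linter.unusedSectionVars false

namespace Cfsg.Agent.H984.SLTwo

open Matrix Cfsg Cfsg.Agent.H984.EigCount
open scoped ComplexConjugate

variable {F : Type*} [Field F] [DecidableEq F] [Fintype F]

local notation "SL" => Matrix.SpecialLinearGroup (Fin 2) F

/-- Frobenius reciprocity, in coordinates. -/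
theorem classInner_ind (f : F → ℂ) (χ : SL → ℂ) (hχ : IsClassFunction SL χ) :
    classInner (indFun (Bor F) (fun b => f (((b : SL) : Matrix (Fin 2) (Fin 2) F) 0 0))) χ =
      (((Fintype.card F : ℂ) - 1) * (Fintype.card F : ℂ))⁻¹ *
        ∑ a : Fˣ, ∑ x : F, f a * conj (χ (upp a x)) := by
  classical
  rw [Cfsg.Agent.CharactersDeep.NormalInd.classInner_indFun (Bor F) _ χ hχ]
  unfold classInner
  rw [card_Bor, Nat.cast_mul, cast_card_sub_one]
  congr 1
  rw [← Finset.sum_product', Finset.univ_product_univ]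
  symm
  refine Fintype.sum_equiv borEquiv _ _ ?_
  rintro ⟨a, x⟩
  change f (a : F) * conj (χ (upp a x)) = f ((upp a x : Matrix (Fin 2) (Fin 2) F) 0 0) * conj (χ (upp a x))
  rw [show (upp a x : Matrix (Fin 2) (Fin 2) F) 0 0 = (a : F) by simp [coe_upp]]

theorem classInner_R (α : MulChar F ℂ) (χ : SL → ℂ) (hχ : IsClassFunction SL χ) :
    classInner (R α) χ = (((Fintype.card F : ℂ) - 1) * (Fintype.card F : ℂ))⁻¹ *
        ∑ a : Fˣ, ∑ x : F, α a * conj (χ (upp a x)) :=
  classInner_ind (fun c => α c) χ hχ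

/-- The sum of an induced function over a coset of the unipotent group. -/
theorem sum_ind_upp (f : F → ℂ) (a : Fˣ) :
    ∑ x : F, indFun (Bor F) (fun b => f (((b : SL) : Matrix (Fin 2) (Fin 2) F) 0 0)) (upp a x) =
      (Fintype.card F : ℂ) * (f a + f ((a⁻¹ : Fˣ) : F)) := by
  have h0 : ∀ x : F, (upp a x : Matrix (Fin 2) (Fin 2) F) 1 0 = 0 := fun x => by simp [coe_upp]
  have h1 : ∀ x : F, (upp a x : Matrix (Fin 2) (Fin 2) F) 0 0 = a := fun x => by simp [coe_upp]
  have h2 : ∀ x : F, (upp a x : Matrix (Fin 2) (Fin 2) F) 1 1 = ((a⁻¹ : Fˣ) : F) := fun x => by simp [coe_upp]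
  have h3 : ∀ x : F, (upp a x : Matrix (Fin 2) (Fin 2) F) 0 1 = x := fun x => by simp [coe_upp]
  by_cases h : (a : F) = ((a⁻¹ : Fˣ) : F)
  · rw [← Finset.add_sum_erase _ _ (Finset.mem_univ (0 : F))]
    rw [ind_scalar f _ (h3 0) (h0 0) (by rw [h1, h2, h])]
    rw [Finset.sum_congr rfl (g := fun _ => f a) (fun x hx => by
      rw [ind_unip f _ (by rw [h3]; exact (Finset.mem_erase.mp hx).1) (h0 x) (by rw [h1, h2, h]), h1])]
    rw [Finset.sum_const, Finset.card_erase_of_mem (Finset.mem_univ _), Finset.card_univ, h1, nsmul_eq_mul,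
      cast_card_sub_one, ← h]
    ring
  · rw [Finset.sum_congr rfl (g := fun _ => f a + f ((a⁻¹ : Fˣ) : F)) (fun x _ => by
      rw [ind_split f _ (h0 x) (by rw [h1, h2]; exact h), h1, h2])]
    rw [Finset.sum_const, Finset.card_univ, nsmul_eq_mul]

theorem isClassFunction_ind (f : F → ℂ) :
    IsClassFunction SL (indFun (Bor F) (fun b => f (((b : SL) : Matrix (Fin 2) (Fin 2) F) 0 0))) := by
  intro g h
  rw [Cfsg.Agent.Characters.Core.indFun_apply, Cfsg.Agent.Characters.Core.indFun_apply]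
  congr 1
  refine Fintype.sum_equiv (Equiv.mulLeft h⁻¹) _ _ ?_
  intro x
  simp only [Equiv.coe_mulLeft]
  congr 1
  group

theorem isClassFunction_R (α : MulChar F ℂ) : IsClassFunction SL (R α) :=
  isClassFunction_ind (fun c => α c)

theorem conj_mulChar (α : MulChar F ℂ) (a : F) : conj (α a) = α⁻¹ a := by
  rw [← MulChar.star_apply' α a]
  rfl

theorem mulChar_inv_units (α : MulChar F ℂ) (a : Fˣ) : α ((a⁻¹ : Fˣ) : F) = α⁻¹ a := by
  rw [MulChar.inv_apply', Units.val_inv_eq_inv_val]

theorem sum_units_mulChar (α : MulChar F ℂ) [Decidable (α = 1)] :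
    ∑ a : Fˣ, α (a : F) = if α = 1 then (Fintype.card F : ℂ) - 1 else 0 := by
  have : ∑ a : F, α a = ∑ a : Fˣ, α (a : F) := by
    rw [← Finset.add_sum_erase _ _ (Finset.mem_univ (0 : F)), MulChar.map_zero, zero_add]
    symm
    refine Finset.sum_bij (fun a _ => (a : F)) ?_ ?_ ?_ ?_
    · intro a _; exact Finset.mem_erase.mpr ⟨a.ne_zero, Finset.mem_univ _⟩
    · intro a _ b _ h; exact Units.ext h
    · intro b hb; exact ⟨Units.mk0 b (Finset.mem_erase.mp hb).1, Finset.mem_univ _, rfl⟩
    · intro a _; rfl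
  rw [← this]
  split_ifs with h
  · rw [h]
    have := MulChar.sum_one_eq_card_units (R := F) (R' := ℂ)
    rw [this, Fintype.card_units, cast_card_sub_one]
  · exact MulChar.sum_eq_zero_of_ne_one h

/-- The Mackey formula for the Borel subgroup of `SL₂`. -/
theorem classInner_R_R (α β : MulChar F ℂ) [Decidable (α = β)] [Decidable (α = β⁻¹)] :
    classInner (R α) (R β) = (if α = β then 1 else 0) + (if α = β⁻¹ then 1 else 0) := by
  classical
  rw [classInner_R α (R β) (isClassFunction_R β)]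
  have hq0 : (Fintype.card F : ℂ) ≠ 0 := by
    exact_mod_cast (Fintype.card_pos (α := F)).ne'
  have step : ∀ a : Fˣ, ∑ x : F, α a * conj (R β (upp a x)) =
      (Fintype.card F : ℂ) * ((α * β⁻¹) a + (α * β) a) := by
    intro a
    rw [← Finset.mul_sum, ← map_sum]
    have := sum_ind_upp (fun c => β c) a
    rw [show ∑ x : F, R β (upp a x) = _ from this]
    rw [map_mul, map_add, conj_mulChar, conj_mulChar, Complex.conj_natCast]
    rw [mulChar_inv_units, inv_inv, MulChar.mul_apply, MulChar.mul_apply]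
    ring
  simp_rw [step]
  rw [← Finset.mul_sum, Finset.sum_add_distrib, sum_units_mulChar, sum_units_mulChar]
  have h1 : (α * β⁻¹ = 1) ↔ (α = β) := by rw [mul_inv_eq_one]
  have h2 : (α * β = 1) ↔ (α = β⁻¹) := by rw [mul_eq_one_iff_eq_inv]
  simp only [h1, h2]
  have hq1 := card_sub_one_ne (F := F)
  by_cases c1 : α = β <;> by_cases c2 : α = β⁻¹
  · rw [if_pos c1, if_pos c2, if_pos c1, if_pos c2]; field_simp
  · rw [if_pos c1, if_neg c2, if_pos c1, if_neg c2]; field_simp; ring
  · rw [if_neg c1, if_pos c2, if_neg c1, if_pos c2]; field_simp; ring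
  · rw [if_neg c1, if_neg c2, if_neg c1, if_neg c2]; simp

end Cfsg.Agent.H984.SLTwo
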