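import Mathlib
import Cfsg.Agent.H984.SLUnip

/-!
# The number of conjugacy classes of `SL₂(q)`
-/

set_option autoImplicit false
set_option linter.unusedSectionVars false

namespace Cfsg.Agent.H984.SLTwo

open Matrix Cfsg Cfsg.Agent.H984.EigCount

variable {F : Type*} [Field F] [DecidableEq F]

local notation "SL" => Matrix.SpecialLinearGroup (Fin 2) F
local notation "M₂" => Matrix (Fin 2) (Fin 2) F

theorem Q_upp {u : Fˣ} (hu : u⁻¹ = u) (b x y : F) : Q (upp u b : M₂) x y = -b * y ^ 2 := by
  unfold Q; rw [coe_upp, hu]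
  simp only [Matrix.of_apply, Matrix.cons_val', Matrix.cons_val_zero,
      Matrix.cons_val_one, Matrix.cons_val_fin_one]
  ring

theorem tr_upp {u : Fˣ} (hu : u⁻¹ = u) (b : F) : tr (upp u b : M₂) = 2 * (u : F) := by
  unfold tr; rw [coe_upp, hu]; simp; ring

theorem NS_upp (u : Fˣ) {b : F} (hb : b ≠ 0) : NS (upp u b : M₂) := by
  left; rw [coe_upp]; simpa using hb

theorem not_NS_upp {u : Fˣ} (hu : u⁻¹ = u) : ¬ NS (upp u 0 : M₂) := by
  unfold NS
  rw [coe_upp, hu]
  simp

theorem exists_conj_upp' {u : Fˣ} (hu : u⁻¹ = u) {g : SL} (hg : NS (g : M₂)) (ht : tr (g : M₂) = 2 * (u : F)) :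
    ∃ b : F, b ≠ 0 ∧ IsConj g (upp u b) := by
  obtain ⟨x, y, hxy⟩ := exists_Q_ne hg
  refine ⟨-Q (g : M₂) x y, neg_ne_zero.mpr hxy, ?_⟩
  refine isConj_of_Q (x := x) (y := y) (x' := 0) (y' := 1) (by rw [ht, tr_upp hu]) hxy rfl ?_
  rw [Q_upp hu]; ring

theorem isConj_upp_iff' {u : Fˣ} (hu : u⁻¹ = u) {b c : F} (hb : b ≠ 0) (hc : c ≠ 0) :
    IsConj (upp u b : SL) (upp u c) ↔ IsSquare (b * c) := by
  constructor
  · intro h
    obtain ⟨x, y, hxy⟩ := Q_of_isConj h 0 1
    rw [Q_upp hu, Q_upp hu] at hxy
    exact ⟨c * y, by linear_combination c * hxy⟩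
  · rintro ⟨r, hr⟩
    refine isConj_of_Q (x := 0) (y := r / b) (x' := 0) (y' := 1) (e := -c) (by rw [tr_upp hu, tr_upp hu])
      (neg_ne_zero.mpr hc) ?_ ?_
    · rw [Q_upp hu]; field_simp; linear_combination hr
    · rw [Q_upp hu]; ring

theorem scalar_cases [Fintype F] {g : SL} (hg : ¬ NS (g : M₂)) : g = upp 1 0 ∨ g = upp (-1) 0 := by
  unfold NS at hg
  push Not at hg
  obtain ⟨h01, h10, h00⟩ := hg
  have hd := det_eq g
  rw [h01, h00] at hd
  have : (g : M₂) 1 1 = 1 ∨ (g : M₂) 1 1 = -1 := sq_eq_one_iff_side.mp (by linear_combination hd)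
  rcases this with h | h
  · left
    apply Matrix.SpecialLinearGroup.ext
    intro i j
    rw [coe_upp]
    fin_cases i <;> fin_cases j <;> simp [h01, h10, h00, h]
  · right
    apply Matrix.SpecialLinearGroup.ext
    intro i j
    rw [coe_upp]
    fin_cases i <;> fin_cases j <;> simp [h01, h10, h00, h]

variable [Fintype F]

/-- the sign -/
def su (b : Bool) : Fˣ := if b then 1 else -1

theorem su_inv (b : Bool) : (su b : Fˣ)⁻¹ = su b := by
  cases b <;> simp [su]

/-- representatives of the classes in odd characteristic -/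
def rep (n : F) : Bool ⊕ {t : F // t ^ 2 ≠ 4} ⊕ (Bool × Bool) → SL
  | Sum.inl b => upp (su b) 0
  | Sum.inr (Sum.inl t) => comp t.1 1
  | Sum.inr (Sum.inr (b, c)) => upp (su b) (if c then 1 else n)

theorem two_mul_su_inj (h2 : ringChar F ≠ 2) {b c : Bool} (h : 2 * ((su b : Fˣ) : F) = 2 * ((su c : Fˣ) : F)) :
    b = c := by
  have h2' : (2 : F) ≠ 0 := Ring.two_ne_zero h2
  have h4 : (4 : F) ≠ 0 := by
    have : (4 : F) = 2 * 2 := by norm_num
    rw [this]; exact mul_ne_zero h2' h2'
  cases b <;> cases c <;> simp [su] at h ⊢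
  · exact h4 (by linear_combination -h)
  · exact h4 (by linear_combination h)

theorem rep_bijective (h2 : ringChar F ≠ 2) {n : F} (hn : ¬ IsSquare n) :
    Function.Bijective (fun i => ConjClasses.mk (rep n i : SL)) := by
  have hn0 : n ≠ 0 := by rintro rfl; exact hn ⟨0, by simp⟩
  have hc : ∀ c : Bool, (if c then 1 else n : F) ≠ 0 := by
    intro c; cases c <;> simp [hn0]
  constructor
  · intro i j hij
    simp only at hij
    rw [ConjClasses.mk_eq_mk_iff_isConj] at hij
    have htr := tr_of_isConj hij
    rcases i with b | t | ⟨b, c⟩ <;> rcases j with b' | t' | ⟨b', c'⟩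
    · simp only [rep] at htr
      rw [tr_upp (su_inv b), tr_upp (su_inv b')] at htr
      rw [two_mul_su_inj h2 htr]
    · exact absurd (NS_of_isConj hij.symm (NS_comp _ _)) (not_NS_upp (su_inv b))
    · exact absurd (NS_of_isConj hij.symm (NS_upp _ (hc c'))) (not_NS_upp (su_inv b))
    · exact absurd (NS_of_isConj hij (NS_comp _ _)) (not_NS_upp (su_inv b'))
    · simp only [rep] at htr
      rw [tr_comp, tr_comp] at htr
      congr 2
      exact Subtype.ext htr
    · simp only [rep] at htr
      rw [tr_comp, tr_upp (su_inv b')] at htr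
      exfalso
      apply t.2
      rw [htr]
      cases b' <;> simp [su] <;> norm_num
    · exact absurd (NS_of_isConj hij (NS_upp _ (hc c))) (not_NS_upp (su_inv b'))
    · simp only [rep] at htr
      rw [tr_comp, tr_upp (su_inv b)] at htr
      exfalso
      apply t'.2
      rw [← htr]
      cases b <;> simp [su] <;> norm_num
    · simp only [rep] at htr hij
      rw [tr_upp (su_inv b), tr_upp (su_inv b')] at htr
      have hb := two_mul_su_inj h2 htr
      subst hb
      rw [isConj_upp_iff' (su_inv b) (hc c) (hc c')] at hij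
      cases c <;> cases c'
      · rfl
      · simp at hij; exact absurd hij hn
      · simp at hij; exact absurd hij hn
      · rfl
  · intro C
    obtain ⟨g, rfl⟩ := C.exists_rep
    by_cases hg : NS (g : M₂)
    · by_cases ht : tr (g : M₂) ^ 2 = 4
      · have : tr (g : M₂) = 2 ∨ tr (g : M₂) = -2 := by
          have : (tr (g : M₂) - 2) * (tr (g : M₂) + 2) = 0 := by linear_combination ht
          rcases mul_eq_zero.mp this with h | h
          · left; linear_combination h
          · right; linear_combination h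
        obtain ⟨b, hb⟩ : ∃ b : Bool, tr (g : M₂) = 2 * ((su b : Fˣ) : F) := by
          rcases this with h | h
          · exact ⟨true, by rw [h]; simp [su]⟩
          · exact ⟨false, by rw [h]; simp [su]⟩
        obtain ⟨x, hx, hcx⟩ := exists_conj_upp' (su_inv b) hg hb
        by_cases hs : IsSquare x
        · refine ⟨Sum.inr (Sum.inr (b, true)), ?_⟩
          apply ConjClasses.mk_eq_mk_iff_isConj.mpr
          refine IsConj.trans ?_ hcx.symm
          simp only [rep, if_true]
          rw [isConj_upp_iff' (su_inv b) one_ne_zero hx, one_mul]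
          exact hs
        · refine ⟨Sum.inr (Sum.inr (b, false)), ?_⟩
          apply ConjClasses.mk_eq_mk_iff_isConj.mpr
          refine IsConj.trans ?_ hcx.symm
          simp only [rep]
          rw [if_neg (by simp), isConj_upp_iff' (su_inv b) hn0 hx]
          exact isSquare_mul_of_not hn hs
      · refine ⟨Sum.inr (Sum.inl ⟨tr (g : M₂), ht⟩), ?_⟩
        apply ConjClasses.mk_eq_mk_iff_isConj.mpr
        have h5 : tr (comp (tr (g : M₂)) 1 : M₂) = tr (g : M₂) := tr_comp _ _
        exact isConj_of_tr (NS_comp _ _) hg h5 (Or.inr (h5.symm ▸ ht))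
    · rcases scalar_cases hg with h | h
      · exact ⟨Sum.inl true, by rw [h]; rfl⟩
      · exact ⟨Sum.inl false, by rw [h]; rfl⟩

theorem card_conjClasses_odd (h2 : ringChar F ≠ 2) : Nat.card (ConjClasses SL) = Fintype.card F + 4 := by
  obtain ⟨n, hn⟩ := FiniteField.exists_nonsquare (F := F) h2
  rw [← Nat.card_congr (Equiv.ofBijective _ (rep_bijective h2 hn))]
  rw [Nat.card_sum, Nat.card_sum, Nat.card_prod]
  have h2' : (2 : F) ≠ 0 := Ring.two_ne_zero h2
  have h22 : (2 : F) ≠ -2 := by
    intro h
    have h4 : (4 : F) ≠ 0 := by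
      have : (4 : F) = 2 * 2 := by norm_num
      rw [this]; exact mul_ne_zero h2' h2'
    exact h4 (by linear_combination h)
  have hset : (Finset.univ.filter (fun t : F => t ^ 2 ≠ 4)) = (Finset.univ : Finset F) \ {2, -2} := by
    ext t
    simp only [Finset.mem_filter, Finset.mem_univ, true_and, Finset.mem_sdiff, Finset.mem_insert,
      Finset.mem_singleton]
    rw [not_iff_not]
    constructor
    · intro ht
      have : (t - 2) * (t + 2) = 0 := by linear_combination ht
      rcases mul_eq_zero.mp this with h | h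
      · left; linear_combination h
      · right; linear_combination h
    · rintro (rfl | rfl) <;> norm_num
  have hcard : Nat.card {t : F // t ^ 2 ≠ 4} = Fintype.card F - 2 := by
    rw [Nat.card_eq_fintype_card, Fintype.card_subtype, hset, Finset.card_sdiff_of_subset (Finset.subset_univ _),
      Finset.card_univ, Finset.card_pair h22]
  rw [hcard]
  have := two_le_card (F := F)
  simp only [Nat.card_eq_fintype_card, Fintype.card_bool]
  omega

/-- representatives of the classes in characteristic two -/
def rep2 : Unit ⊕ F → SL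
  | Sum.inl _ => 1
  | Sum.inr t => comp t 1

theorem rep2_bijective (h2 : ringChar F = 2) :
    Function.Bijective (fun i => ConjClasses.mk (rep2 i : SL)) := by
  have hone : ¬ NS ((1 : SL) : M₂) := by
    unfold NS; simp
  constructor
  · intro i j hij
    simp only at hij
    rw [ConjClasses.mk_eq_mk_iff_isConj] at hij
    have htr := tr_of_isConj hij
    rcases i with u | t <;> rcases j with u' | t'
    · rfl
    · exact absurd (NS_of_isConj hij.symm (NS_comp _ _)) hone
    · exact absurd (NS_of_isConj hij (NS_comp _ _)) hone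
    · simp only [rep2] at htr
      rw [tr_comp, tr_comp] at htr
      rw [htr]
  · intro C
    obtain ⟨g, rfl⟩ := C.exists_rep
    by_cases hg : NS (g : M₂)
    · refine ⟨Sum.inr (tr (g : M₂)), ?_⟩
      apply ConjClasses.mk_eq_mk_iff_isConj.mpr
      exact isConj_of_tr (NS_comp _ _) hg (tr_comp _ _) (Or.inl h2)
    · refine ⟨Sum.inl (), ?_⟩
      have h5 : CharP F 2 := by rw [← h2]; exact ringChar.charP F
      rcases scalar_cases hg with h | h
      · rw [h, upp_one_zero]; rfl
      · have : (-1 : Fˣ) = 1 := by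
          apply Units.ext
          rw [Units.val_neg, Units.val_one]
          exact CharTwo.neg_eq 1
        rw [h, this, upp_one_zero]; rfl

theorem card_conjClasses_even (h2 : ringChar F = 2) : Nat.card (ConjClasses SL) = Fintype.card F + 1 := by
  rw [← Nat.card_congr (Equiv.ofBijective _ (rep2_bijective h2))]
  rw [Nat.card_sum]
  simp only [Nat.card_eq_fintype_card, Fintype.card_unit]
  omega

theorem ringChar_ne_two_of_odd (h : Odd (Fintype.card F)) : ringChar F ≠ 2 := by
  intro h2
  have := (FiniteField.even_card_iff_char_two (F := F)).mp h2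
  rw [Nat.odd_iff] at h
  omega

end Cfsg.Agent.H984.SLTwo
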