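import Mathlib
import Cfsg.Agent.H984.SLX

/-!
# The irreducible characters of `SL₂` over a finite field of odd order
-/

set_option autoImplicit false
set_option linter.unusedSectionVars false

namespace Cfsg.Agent.H984.SLTwo

open Matrix Cfsg Cfsg.Agent.H984.EigCount
open scoped ComplexConjugate

section general

variable {G : Type*} [Group G] [Fintype G]

theorem mult_le {φ φ' χ : G → ℂ} (hφ : IsCharacter G φ) (hφ' : IsCharacter G φ') (hχ : IsIrrCharacter G χ)
    {m n N : ℕ} (hm : classInner φ χ = m) (hn : classInner φ' χ = n) (hN : classInner φ φ' = N) : m * n ≤ N := by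
  classical
  have := Cfsg.Agent.Characters.Core.finite_irr (G := G)
  have := Fintype.ofFinite (IrrCharacter G)
  have h1 := Cfsg.Agent.Characters.Core.classInner_eq_sum
    (Cfsg.Agent.Characters.Core.isCharacter_isClassFunction hφ)
    (Cfsg.Agent.Characters.Core.isCharacter_isClassFunction hφ')
  have h2 : ∀ ψ : IrrCharacter G, ∃ k : ℕ, classInner φ (ψ : G → ℂ) * conj (classInner φ' (ψ : G → ℂ)) = k := by
    intro ψ
    obtain ⟨a, ha⟩ := Cfsg.Agent.Characters.Core.classInner_isNat hφ (Cfsg.Agent.Characters.Core.isIrr_isCharacter ψ.2)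
    obtain ⟨b, hb⟩ := Cfsg.Agent.Characters.Core.classInner_isNat hφ' (Cfsg.Agent.Characters.Core.isIrr_isCharacter ψ.2)
    exact ⟨a * b, by rw [ha, hb]; push_cast; simp⟩
  choose k hk using h2
  rw [Finset.sum_congr rfl (fun ψ _ => hk ψ), hN] at h1
  have h3 : N = ∑ ψ : IrrCharacter G, k ψ := by exact_mod_cast h1
  have h4 : k ⟨χ, hχ⟩ = m * n := by
    have := hk ⟨χ, hχ⟩
    simp only at this
    rw [hm, hn] at this
    have h5 : ((k ⟨χ, hχ⟩ : ℕ) : ℂ) = ((m * n : ℕ) : ℂ) := by rw [← this]; push_cast; simp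
    exact_mod_cast h5
  rw [← h4, h3]
  exact Finset.single_le_sum (f := k) (fun _ _ => Nat.zero_le _) (Finset.mem_univ _)

/-- Bessel's inequality. -/
theorem bessel {φ χ : G → ℂ} (hφ : IsClassFunction G φ) (hχ : IsIrrCharacter G χ) {r : ℝ}
    (hr : classInner φ φ = r) : ‖classInner φ χ‖ ^ 2 ≤ r := by
  classical
  have := Cfsg.Agent.Characters.Core.finite_irr (G := G)
  have := Fintype.ofFinite (IrrCharacter G)
  have h1 := Cfsg.Agent.Characters.Core.classInner_eq_sum hφ hφ
  rw [hr] at h1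
  have h2 : (r : ℂ) = ((∑ ψ : IrrCharacter G, ‖classInner φ (ψ : G → ℂ)‖ ^ 2 : ℝ) : ℂ) := by
    rw [h1]
    push_cast
    refine Finset.sum_congr rfl fun ψ _ => ?_
    rw [Complex.mul_conj, Complex.normSq_eq_norm_sq]
    push_cast; rfl
  have h3 : r = ∑ ψ : IrrCharacter G, ‖classInner φ (ψ : G → ℂ)‖ ^ 2 := by exact_mod_cast h2
  rw [h3]
  have h5 := Finset.single_le_sum (s := Finset.univ) (f := fun ψ : IrrCharacter G => ‖classInner φ (ψ : G → ℂ)‖ ^ 2)
    (fun ψ _ => sq_nonneg _) (Finset.mem_univ (⟨χ, hχ⟩ : IrrCharacter G))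
  exact h5

end general

variable {F : Type*} [Field F] [DecidableEq F] [Fintype F]

local notation "SL" => Matrix.SpecialLinearGroup (Fin 2) F
local notation "M₂" => Matrix (Fin 2) (Fin 2) F

theorem classInner_R_one_one : classInner (R (1 : MulChar F ℂ)) (1 : SL → ℂ) = 1 := by
  rw [classInner_R _ _ (fun _ _ => rfl)]
  simp only [MulChar.one_apply_coe, Pi.one_apply, map_one, mul_one, Finset.sum_const, Finset.card_univ, nsmul_eq_mul,
    Fintype.card_units, cast_card_sub_one]
  have := card_ne (F := F)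
  have := card_sub_one_ne (F := F)
  field_simp

theorem nat_of_classInner {G : Type*} [Group G] [Fintype G] {χ ψ : G → ℂ} (hχ : IsCharacter G χ) (hψ : IsCharacter G ψ) :
    ∃ n : ℕ, classInner χ ψ = n ∧ classInner ψ χ = n := by
  obtain ⟨n, hn⟩ := Cfsg.Agent.Characters.Core.classInner_isNat hχ hψ
  refine ⟨n, hn, ?_⟩
  rw [← Cfsg.Agent.Characters.Core.classInner_conj_symm, hn, Complex.conj_natCast]

/-- The irreducible characters, according to their behaviour on the Borel subgroup. -/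
theorem irr_cases {χ : SL → ℂ} (hχ : IsIrrCharacter SL χ) :
    (∃ α : MulChar F ℂ, α⁻¹ ≠ α ∧ χ = R α) ∨ χ = 1 ∨ (χ = fun x => R (1 : MulChar F ℂ) x - 1) ∨
    (∃ α : MulChar F ℂ, α⁻¹ = α ∧ α ≠ 1 ∧ classInner χ (R α) = 1 ∧ ∀ β, β ≠ α → classInner χ (R β) = 0) ∨
    (∀ β : MulChar F ℂ, classInner χ (R β) = 0) := by
  classical
  have hχc := Cfsg.Agent.Characters.Core.isIrr_isCharacter hχ
  by_cases hcusp : ∀ β : MulChar F ℂ, classInner χ (R β) = 0
  · exact Or.inr (Or.inr (Or.inr (Or.inr hcusp)))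
  push Not at hcusp
  obtain ⟨α, hα⟩ := hcusp
  by_cases hinv : α⁻¹ = α
  · right
    obtain ⟨m, hm, hm'⟩ := nat_of_classInner hχc (isCharacter_R α)
    have hm0 : m ≠ 0 := by rintro rfl; exact hα (by rw [hm]; simp)
    have hm1 : m = 1 := by
      have := mult_le (isCharacter_R α) (isCharacter_R α) hχ hm' hm' (N := 2) (by
        rw [classInner_R_R, if_pos rfl, if_pos hinv.symm]; norm_num)
      have h3 : m * m < 2 * 2 := by omega
      have : m < 2 := by
        by_contra h
        push Not at h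
        exact absurd (Nat.mul_le_mul h h) (by omega)
      omega
    have hβ : ∀ β, β ≠ α → classInner χ (R β) = 0 := by
      intro β hβ
      obtain ⟨n, hn, hn'⟩ := nat_of_classInner hχc (isCharacter_R β)
      have := mult_le (isCharacter_R α) (isCharacter_R β) hχ hm' hn' (N := 0) (by
        rw [classInner_R_R, if_neg hβ.symm, if_neg]
        · norm_num
        · intro h
          apply hβ
          rw [← hinv, h, inv_inv])
      rw [hm1, one_mul] at this
      rw [hn, Nat.le_zero.mp this, Nat.cast_zero]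
    by_cases h1 : α = 1
    · subst h1
      by_cases hχ1 : χ = 1
      · exact Or.inl hχ1
      · right; left
        have hR1 : classInner (R (1 : MulChar F ℂ)) χ = 1 := by rw [hm', hm1]; simp
        have h1χ : classInner (1 : SL → ℂ) χ = 0 :=
          Cfsg.Agent.Characters.Core.classInner_irr_ne Cfsg.Agent.Characters.Core.isIrr_one hχ (Ne.symm hχ1)
        have hχχ := Cfsg.Agent.Characters.Core.classInner_irr_self hχ
        have h11 : classInner (1 : SL → ℂ) 1 = 1 := Cfsg.Agent.Characters.Core.classInner_irr_self Cfsg.Agent.Characters.Core.isIrr_one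
        have hRR : classInner (R (1 : MulChar F ℂ)) (R (1 : MulChar F ℂ)) = 2 := by
          rw [classInner_R_R, if_pos rfl, if_pos (by simp)]; norm_num
        have hR : classInner (R (1 : MulChar F ℂ)) (1 : SL → ℂ) = 1 := classInner_R_one_one
        have hR' : classInner (1 : SL → ℂ) (R (1 : MulChar F ℂ)) = 1 := by
          rw [← Cfsg.Agent.Characters.Core.classInner_conj_symm, hR, map_one]
        have hχR : classInner χ (R (1 : MulChar F ℂ)) = 1 := by rw [hm, hm1]; simp
        have hχ1' : classInner χ (1 : SL → ℂ) = 0 :=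
          Cfsg.Agent.Characters.Core.classInner_irr_ne hχ Cfsg.Agent.Characters.Core.isIrr_one hχ1
        have h0 : classInner (R (1 : MulChar F ℂ) - 1 - χ) (R (1 : MulChar F ℂ) - 1 - χ) = 0 := by
          simp only [Cfsg.Agent.Characters.Core.classInner_sub_left, Cfsg.Agent.Characters.Core.classInner_sub_right,
            hR1, h1χ, hχχ, h11, hRR, hR, hR', hχR, hχ1']
          norm_num
        have := Cfsg.Agent.Characters.Core.classInner_self_eq_zero h0
        rw [sub_eq_zero] at this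
        rw [← this]
        rfl
    · right; right; left
      exact ⟨α, hinv, h1, by rw [hm, hm1]; simp, hβ⟩
  · left
    have hirr : IsIrrCharacter SL (R α) := by
      apply Cfsg.Agent.Characters.Core.isIrr_of_classInner_self (isCharacter_R α)
      rw [classInner_R_R, if_pos rfl, if_neg (Ne.symm hinv), add_zero]
    refine ⟨α, hinv, ?_⟩
    by_contra hne
    exact hα (Cfsg.Agent.Characters.Core.classInner_irr_ne hχ hirr hne)

variable {g : Matrix.SpecialLinearGroup (Fin 2) F}

theorem X_one_one (h2 : ringChar F ≠ 2) (hg : Ell (g : M₂)) :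
    X (1 : Subgroup.centralizer ({g} : Set SL) →* ℂˣ) (1 : MulChar F ℂ) = R (1 : MulChar F ℂ) - 1 - 1 := by
  classical
  obtain ⟨S, hS⟩ : ∃ S : SL → ℂ, S = R (1 : MulChar F ℂ) - 1 - 1 := ⟨_, rfl⟩
  have hSa : ∀ x, S x = R (1 : MulChar F ℂ) x - 2 := by
    intro x; rw [hS]; simp only [Pi.sub_apply, Pi.one_apply]; ring
  have hclS : IsClassFunction SL S := by
    intro x y
    rw [hSa, hSa, isClassFunction_R (1 : MulChar F ℂ) x y]
  have hpar : (1 : MulChar F ℂ) (-1) = ((1 : Subgroup.centralizer ({g} : Set SL) →* ℂˣ) ⟨z0, z0_mem g⟩ : ℂ) := by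
    have := MulChar.one_apply_coe (R := F) (R' := ℂ) (-1)
    rw [Units.val_neg, Units.val_one] at this
    rw [this]; rfl
  obtain ⟨Y, hY⟩ : ∃ Y : SL → ℂ, Y = X (1 : Subgroup.centralizer ({g} : Set SL) →* ℂˣ) (1 : MulChar F ℂ) := ⟨_, rfl⟩
  rw [← hS, ← hY]
  have h12 : (1 : Subgroup.centralizer ({g} : Set SL) →* ℂˣ) ^ 2 = 1 := by
    ext c; simp [MonoidHom.pow_apply]
  have hm1 : (1 : MulChar F ℂ) (-1) = 1 := by rw [hpar]; rfl
  have hScoin : ∀ a : Fˣ, a⁻¹ = a → ∀ x, S (upp a x) = Y (upp a x) := by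
    intro a ha x
    by_cases hx : x = 0
    · subst hx
      rw [hSa, R_upp_zero _ ha]
      rcases inv_eq_self_cases ha with rfl | rfl
      · rw [upp_one_zero, hY, X_one hg]; simp; ring
      · change _ = Y z0
        rw [hY, X_z0 hg hpar, Units.val_neg, Units.val_one, hm1]; ring
    · rw [hSa, R_upp_ne _ ha hx, hY, X_upp_ne hg _ _ ha hx, MulChar.one_apply_coe]; norm_num
  have hz : S z0 = Y z0 := hScoin (-1) neg_one_inv 0
  have h1 : S 1 = Y 1 := by rw [← upp_one_zero]; exact hScoin 1 inv_one 0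
  have hSC : ∀ c ∈ Subgroup.centralizer ({g} : Set SL), S c = Y c := by
    intro c hc
    by_cases hNS : NS (c : M₂)
    · rw [hSa, R_ell _ (ell_of_mem_cent hg hc hNS), hY, X_ell hg _ _ hc hNS]; norm_num
    · rcases scalar_cases hNS with h | h
      · rw [upp_one_zero] at h; rw [h, h1]
      · rw [show c = z0 from h, hz]
  have hAS : classInner (A (1 : MulChar F ℂ)) S = 2 := by
    rw [← classInner_A_X h2 hg hpar, classInner_A h2 _ hclS, classInner_A h2 _ (isClassFunction_X _ _), ← hY, h1, hz]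
    have e1 : (∑ x, conj (S (upp 1 x))) = ∑ x, conj (Y (upp 1 x)) :=
      Finset.sum_congr rfl fun x _ => by rw [hScoin 1 inv_one x]
    have e2 : (∑ x, conj (S (upp (-1) x))) = ∑ x, conj (Y (upp (-1) x)) :=
      Finset.sum_congr rfl fun x _ => by rw [hScoin (-1) neg_one_inv x]
    rw [e1, e2]
  have hYS : classInner Y S = 2 := by
    rw [hY, classInner_X, hAS, classInner_I_X h2 hg hpar hclS (by rw [← hY]; exact hSC), if_pos h12, sub_zero]
  have hYY : classInner Y Y = 2 := by
    rw [hY, classInner_X, classInner_A_X h2 hg hpar, classInner_I_X h2 hg hpar (isClassFunction_X _ _) (fun _ _ => rfl),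
      if_pos h12, sub_zero]
  have hSY : classInner S Y = 2 := by
    rw [← Cfsg.Agent.Characters.Core.classInner_conj_symm, hYS, map_ofNat]
  have hRR : classInner (R (1 : MulChar F ℂ)) (R (1 : MulChar F ℂ)) = 2 := by
    rw [classInner_R_R, if_pos rfl, if_pos (by simp)]; norm_num
  have hR : classInner (R (1 : MulChar F ℂ)) (1 : SL → ℂ) = 1 := classInner_R_one_one
  have hR' : classInner (1 : SL → ℂ) (R (1 : MulChar F ℂ)) = 1 := by
    rw [← Cfsg.Agent.Characters.Core.classInner_conj_symm, hR, map_one]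
  have h11 : classInner (1 : SL → ℂ) 1 = 1 := Cfsg.Agent.Characters.Core.classInner_irr_self Cfsg.Agent.Characters.Core.isIrr_one
  have hSS : classInner S S = 2 := by
    rw [hS]
    simp only [Cfsg.Agent.Characters.Core.classInner_sub_left, Cfsg.Agent.Characters.Core.classInner_sub_right,
      h11, hRR, hR, hR']
    norm_num
  have h0 : classInner (Y - S) (Y - S) = 0 := by
    rw [Cfsg.Agent.Characters.Core.classInner_sub_left, Cfsg.Agent.Characters.Core.classInner_sub_right,
      Cfsg.Agent.Characters.Core.classInner_sub_right, hYY, hYS, hSY, hSS]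
    norm_num
  exact sub_eq_zero.mp (Cfsg.Agent.Characters.Core.classInner_self_eq_zero h0)

/-! ### values on the torus -/

theorem jac_one_nat {χ : SL → ℂ} (hχ : IsCharacter SL χ) : ∃ n : ℕ, jac χ 1 = n := by
  classical
  have : Finite (Fˣ →* ℂˣ) := Cfsg.Agent.H670.RankOne.finite_hom mul_comm
  have : Fintype (Fˣ →* ℂˣ) := Fintype.ofFinite _
  have h := fun lam : Fˣ →* ℂˣ => nat_of_classInner hχ (isCharacter_R (MulChar.ofUnitHom lam))
  choose n hn _ using h
  refine ⟨∑ lam : Fˣ →* ℂˣ, n lam, ?_⟩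
  rw [jac_eq (Cfsg.Agent.Characters.Core.isCharacter_isClassFunction hχ), Nat.cast_sum]
  refine Finset.sum_congr rfl fun lam _ => ?_
  rw [hn, map_one, Units.val_one, mul_one]

theorem jac_neg_one {χ : SL → ℂ} {ε : ℂ} (hε : ∀ x, χ (z0 * x) = ε * χ x) : jac χ (-1) = ε * jac χ 1 := by
  have h : ∑ x : F, χ (upp (-1) x) = ε * ∑ x : F, χ (upp 1 x) := by
    rw [Finset.mul_sum, ← Equiv.sum_comp (Equiv.neg F)]
    refine Finset.sum_congr rfl fun x _ => ?_
    rw [← hε, z0_mul_upp]
    simp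
  unfold jac
  rw [h]; ring

theorem exists_parity {χ : SL → ℂ} (hχ : IsIrrCharacter SL χ) :
    ∃ ε : ℂ, (ε = 1 ∨ ε = -1) ∧ ∀ x, χ (z0 * x) = ε * χ x := by
  obtain ⟨w, _, hw⟩ := Cfsg.Agent.CharDeep.DegreeBound.exists_omega hχ z0_mem_center
  have hw' : ∀ x, χ (z0 * x) = w * χ x := fun x => by rw [z0_comm, hw]
  refine ⟨w, ?_, hw'⟩
  have h1 := hw' z0
  have h2 := hw' 1
  rw [z0_mul_self] at h1
  rw [mul_one] at h2
  rw [h2] at h1
  have h0 := Cfsg.Agent.Characters.Core.isIrr_apply_one_ne_zero hχ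
  have h3 : (w - 1) * (w + 1) = 0 := by
    have : ((w - 1) * (w + 1)) * χ 1 = 0 := by linear_combination -h1
    exact (mul_eq_zero.mp this).resolve_right h0
  rcases mul_eq_zero.mp h3 with h | h
  · left; linear_combination h
  · right; linear_combination h

theorem exists_alpha (h2 : ringChar F ≠ 2) {ε : ℂ} (hε : ε = 1 ∨ ε = -1) : ∃ α : MulChar F ℂ, α (-1) = ε ∧ (ε = 1 → α = 1) := by
  rcases hε with rfl | rfl
  · refine ⟨1, ?_, fun _ => rfl⟩
    have := MulChar.one_apply_coe (R := F) (R' := ℂ) (-1)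
    rwa [Units.val_neg, Units.val_one] at this
  · have hne : (-1 : Fˣ) ≠ 1 := (one_ne_neg_one h2).symm
    obtain ⟨f, hf⟩ := CommGroup.exists_apply_ne_one_of_hasEnoughRootsOfUnity Fˣ ℂ hne
    refine ⟨MulChar.ofUnitHom f, ?_, fun h => absurd h (by norm_num)⟩
    have h1 := MulChar.ofUnitHom_coe f (-1)
    rw [Units.val_neg, Units.val_one] at h1
    rcases mulChar_neg_one_cases (MulChar.ofUnitHom f) with h | h
    · exfalso
      rw [h] at h1
      exact hf (Units.ext h1.symm)
    · exact h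

theorem hom_z0_cases (θ : Subgroup.centralizer ({g} : Set SL) →* ℂˣ) :
    (θ ⟨z0, z0_mem g⟩ : ℂ) = 1 ∨ (θ ⟨z0, z0_mem g⟩ : ℂ) = -1 := by
  have h1 : (θ ⟨z0, z0_mem g⟩ : ℂ) * (θ ⟨z0, z0_mem g⟩ : ℂ) = 1 := by
    rw [← Units.val_mul, ← map_mul]
    have : (⟨z0, z0_mem g⟩ : Subgroup.centralizer ({g} : Set SL)) * ⟨z0, z0_mem g⟩ = 1 := Subtype.ext z0_mul_self
    rw [this, map_one, Units.val_one]
  exact mul_self_eq_one_iff.mp h1

theorem classInner_A_irr (h2 : ringChar F ≠ 2) {χ : SL → ℂ} (hχ : IsIrrCharacter SL χ) {ε : ℂ} (hε1 : ε = 1 ∨ ε = -1)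
    (hε : ∀ x, χ (z0 * x) = ε * χ x) {α : MulChar F ℂ} (hα : α (-1) = ε) :
    classInner (A α) χ = 2 * ((χ 1 - jac χ 1) / ((Fintype.card F : ℂ) - 1)) := by
  have hcl := Cfsg.Agent.Characters.Core.isIrr_isClassFunction hχ
  rw [classInner_A' h2 α hcl, jac_neg_one hε, hα]
  have hz : χ z0 = ε * χ 1 := by rw [← hε, mul_one]
  rw [hz]
  obtain ⟨n, hn⟩ := jac_one_nat (Cfsg.Agent.Characters.Core.isIrr_isCharacter hχ)
  obtain ⟨m, _, hm⟩ := Cfsg.Agent.Characters.Core.isIrr_apply_one hχ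
  rw [hn, hm]
  have hcε : conj ε = ε := by rcases hε1 with h | h <;> rw [h] <;> simp
  have hεε : ε * ε = 1 := by rcases hε1 with h | h <;> rw [h] <;> norm_num
  simp only [map_mul, Complex.conj_natCast, hcε]
  have := card_sub_one_ne (F := F)
  field_simp
  linear_combination ((m : ℂ) - n) * hεε

/-- Inner product with the induced function of the right parity. -/
theorem classInner_I_irr (h2 : ringChar F ≠ 2) (hg : Ell (g : M₂)) {χ : SL → ℂ} (hχ : IsIrrCharacter SL χ) {ε : ℂ}
    (hε1 : ε = 1 ∨ ε = -1) (hε : ∀ x, χ (z0 * x) = ε * χ x)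
    (h1 : classInner χ (R (1 : MulChar F ℂ)) = 0)
    (hX : ∀ (θ : Subgroup.centralizer ({g} : Set SL) →* ℂˣ) (α : MulChar F ℂ), α (-1) = (θ ⟨z0, z0_mem g⟩ : ℂ) →
      θ ^ 2 ≠ 1 → χ ≠ X θ α)
    {θ : Subgroup.centralizer ({g} : Set SL) →* ℂˣ} (hθ : (θ ⟨z0, z0_mem g⟩ : ℂ) = ε) (hθ1 : θ = 1 ∨ θ ^ 2 ≠ 1) :
    classInner (I θ) χ = 2 * ((χ 1 - jac χ 1) / ((Fintype.card F : ℂ) - 1)) := by
  obtain ⟨α, hα, hα1⟩ := exists_alpha h2 hε1
  have hpar : α (-1) = (θ ⟨z0, z0_mem g⟩ : ℂ) := by rw [hα, hθ]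
  have key : classInner (X θ α) χ = 0 := by
    rcases hθ1 with h | h
    · subst h
      have he : ε = 1 := by rw [← hθ]; rfl
      rw [hα1 he, X_one_one h2 hg, Cfsg.Agent.Characters.Core.classInner_sub_left,
        Cfsg.Agent.Characters.Core.classInner_sub_left]
      have e1 : classInner (R (1 : MulChar F ℂ)) χ = 0 := by
        rw [← Cfsg.Agent.Characters.Core.classInner_conj_symm, h1, map_zero]
      have e2 : classInner (1 : SL → ℂ) χ = 0 := by
        apply Cfsg.Agent.Characters.Core.classInner_irr_ne Cfsg.Agent.Characters.Core.isIrr_one hχ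
        rintro rfl
        rw [← Cfsg.Agent.Characters.Core.classInner_conj_symm, classInner_R_one_one, map_one] at h1
        exact one_ne_zero h1
      rw [e1, e2]; ring
    · exact Cfsg.Agent.Characters.Core.classInner_irr_ne (isIrr_X h2 hg hpar h) hχ (hX θ α hpar h).symm
  rw [classInner_X, classInner_A_irr h2 hχ hε1 hε hα] at key
  exact (sub_eq_zero.mp key).symm

theorem classInner_I_parity (hg : Ell (g : M₂)) {χ : SL → ℂ} (hcl : IsClassFunction SL χ) {ε : ℂ}
    (hε1 : ε = 1 ∨ ε = -1) (hε : ∀ x, χ (z0 * x) = ε * χ x)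
    {θ : Subgroup.centralizer ({g} : Set SL) →* ℂˣ} (hθ : (θ ⟨z0, z0_mem g⟩ : ℂ) ≠ ε) :
    classInner (I θ) χ = 0 := by
  classical
  have : Fintype (Subgroup.centralizer ({g} : Set SL)) := Fintype.ofFinite _
  rw [classInner_I hg θ χ hcl]
  have hθε : (θ ⟨z0, z0_mem g⟩ : ℂ) * ε = -1 := by
    rcases hom_z0_cases θ with h | h <;> rcases hε1 with h' | h'
    · exact absurd (h.trans h'.symm) hθ
    · rw [h, h']; norm_num
    · rw [h, h']; norm_num
    · exact absurd (h.trans h'.symm) hθ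
  have hcε : conj ε = ε := by rcases hε1 with h | h <;> rw [h] <;> simp
  have key : ∑ c : Subgroup.centralizer ({g} : Set SL), (θ c : ℂ) * conj (χ c) =
      - ∑ c : Subgroup.centralizer ({g} : Set SL), (θ c : ℂ) * conj (χ c) := by
    rw [← Finset.sum_neg_distrib]
    rw [← Equiv.sum_comp (Equiv.mulLeft (⟨z0, z0_mem g⟩ : Subgroup.centralizer ({g} : Set SL)))]
    refine Finset.sum_congr rfl fun c _ => ?_
    simp only [Equiv.coe_mulLeft, map_mul, Units.val_mul, Subgroup.coe_mul]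
    rw [hε, map_mul, hcε]
    linear_combination ((θ c : ℂ) * conj (χ c)) * hθε
  have h0 : ∑ c : Subgroup.centralizer ({g} : Set SL), (θ c : ℂ) * conj (χ c) = 0 := by
    have h3 : 2 * ∑ c : Subgroup.centralizer ({g} : Set SL), (θ c : ℂ) * conj (χ c) = 0 := by
      linear_combination key
    exact (mul_eq_zero.mp h3).resolve_left two_ne_zero
  rw [h0, mul_zero]

theorem classInner_torus (hg : Ell (g : M₂)) {χ : SL → ℂ} (hcl : IsClassFunction SL χ)
    [Fintype (Subgroup.centralizer ({g} : Set SL))]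
    (θ : Subgroup.centralizer ({g} : Set SL) →* ℂˣ) :
    classInner (fun c : Subgroup.centralizer ({g} : Set SL) => χ c) (fun c => (θ c : ℂ)) = conj (classInner (I θ) χ) := by
  rw [classInner_I hg θ χ hcl]
  unfold classInner
  rw [card_cent_ell g hg, map_mul, map_inv₀, map_add, map_one, Complex.conj_natCast, map_sum]
  push_cast
  congr 1
  refine Finset.sum_congr rfl fun c _ => ?_
  rw [map_mul, Complex.conj_conj, mul_comm]

/-- The values of an irreducible character on the non-split torus. -/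
theorem torus_values (h2 : ringChar F ≠ 2) (hg : Ell (g : M₂)) {χ : SL → ℂ} (hχ : IsIrrCharacter SL χ) {ε : ℂ}
    (hε1 : ε = 1 ∨ ε = -1) (hε : ∀ x, χ (z0 * x) = ε * χ x)
    (h1 : classInner χ (R (1 : MulChar F ℂ)) = 0)
    (hX : ∀ (θ : Subgroup.centralizer ({g} : Set SL) →* ℂˣ) (α : MulChar F ℂ), α (-1) = (θ ⟨z0, z0_mem g⟩ : ℂ) →
      θ ^ 2 ≠ 1 → χ ≠ X θ α)
    (θ₀ : Subgroup.centralizer ({g} : Set SL) →* ℂˣ)
    (hθ₀ : ∀ θ : Subgroup.centralizer ({g} : Set SL) →* ℂˣ, θ ^ 2 = 1 → θ = 1 ∨ θ = θ₀) :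
    ∃ b : ℂ, (∀ c (hc : c ∈ Subgroup.centralizer ({g} : Set SL)), NS (c : M₂) → χ c = b * (θ₀ ⟨c, hc⟩ : ℂ)) ∧
      χ 1 = (χ 1 - jac χ 1) / ((Fintype.card F : ℂ) - 1) * ((Fintype.card F : ℂ) + 1) + b ∧
      ((θ₀ ⟨z0, z0_mem g⟩ : ℂ) ≠ ε → b = 0) ∧
      ((θ₀ ⟨z0, z0_mem g⟩ : ℂ) = ε → b = conj (classInner (I θ₀) χ) -
        2 * ((χ 1 - jac χ 1) / ((Fintype.card F : ℂ) - 1))) := by
  classical
  have hcl := Cfsg.Agent.Characters.Core.isIrr_isClassFunction hχ
  have : Fintype (Subgroup.centralizer ({g} : Set SL)) := Fintype.ofFinite _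
  have hcyc := isCyclic_cent g hg
  have hcomm : ∀ a b : Subgroup.centralizer ({g} : Set SL), a * b = b * a :=
    (IsCyclic.isMulCommutative (α := Subgroup.centralizer ({g} : Set SL))).is_comm.comm
  have : Finite (Subgroup.centralizer ({g} : Set SL) →* ℂˣ) := Cfsg.Agent.H670.RankOne.finite_hom hcomm
  have : Fintype (Subgroup.centralizer ({g} : Set SL) →* ℂˣ) := Fintype.ofFinite _
  have hq1 := card_add_one_ne (F := F)
  have hcard : (Nat.card (Subgroup.centralizer ({g} : Set SL)) : ℂ) = (Fintype.card F : ℂ) + 1 := by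
    rw [card_cent_ell g hg]; push_cast; ring
  obtain ⟨K, hK⟩ : ∃ K : ℂ, K = (χ 1 - jac χ 1) / ((Fintype.card F : ℂ) - 1) := ⟨_, rfl⟩
  rw [← hK]
  have hKr : conj K = K := by
    obtain ⟨n, hn⟩ := jac_one_nat (Cfsg.Agent.Characters.Core.isIrr_isCharacter hχ)
    obtain ⟨m, _, hm⟩ := Cfsg.Agent.Characters.Core.isIrr_apply_one hχ
    rw [hK, hn, hm]; simp
  have hεε : ε * ε = 1 := by rcases hε1 with h | h <;> rw [h] <;> norm_num
  -- the delta function
  let δ : Subgroup.centralizer ({g} : Set SL) → ℂ := fun c =>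
    if NS ((c : SL) : M₂) then 0 else if c = 1 then 1 else ε
  have hδ1 : δ 1 = 1 := by
    simp only [δ]
    rw [if_neg (by unfold NS; simp)]
    simp
  have hz01 : (⟨z0, z0_mem g⟩ : Subgroup.centralizer ({g} : Set SL)) ≠ 1 :=
    fun h => z0_ne_one h2 (congrArg Subtype.val h)
  have hδz : δ ⟨z0, z0_mem g⟩ = ε := by
    simp only [δ]
    rw [if_neg not_NS_z0, if_neg hz01]
  have hδ : ∀ θ : Subgroup.centralizer ({g} : Set SL) →* ℂˣ, classInner δ (fun c => (θ c : ℂ)) =
      if (θ ⟨z0, z0_mem g⟩ : ℂ) = ε then 2 / ((Fintype.card F : ℂ) + 1) else 0 := by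
    intro θ
    unfold classInner
    rw [hcard, sum_two h2 _ (fun c hc => by simp only [δ]; rw [if_pos hc, zero_mul]), hδ1, hδz]
    simp only [Units.val_one, map_one, one_mul]
    rcases hom_z0_cases θ with h | h <;> rcases hε1 with h' | h' <;> rw [h, h'] <;> norm_num <;> field_simp
  obtain ⟨b, hb⟩ : ∃ b : ℂ, b = conj (classInner (I θ₀) χ) - if (θ₀ ⟨z0, z0_mem g⟩ : ℂ) = ε then 2 * K else 0 := ⟨_, rfl⟩
  have hθθ : ∀ θ : Subgroup.centralizer ({g} : Set SL) →* ℂˣ,
      classInner (fun c => (θ₀ c : ℂ)) (fun c => (θ c : ℂ)) = if θ = θ₀ then 1 else 0 := by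
    intro θ
    rw [Cfsg.Agent.Characters.Core.classInner_irr (Cfsg.Agent.Characters.Linear.isIrrCharacter_hom θ₀)
      (Cfsg.Agent.Characters.Linear.isIrrCharacter_hom θ)]
    have : ((fun c => (θ₀ c : ℂ)) = fun c => (θ c : ℂ)) ↔ θ = θ₀ := by
      constructor
      · intro h
        ext c
        exact (congrFun h c).symm
      · rintro rfl; rfl
    simp only [this]
  have hzero : ∀ c : Subgroup.centralizer ({g} : Set SL),
      χ c = K * ((Fintype.card F : ℂ) + 1) * δ c + b * (θ₀ c : ℂ) := by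
    have hin : ∀ θ : Subgroup.centralizer ({g} : Set SL) →* ℂˣ,
        classInner (fun c : Subgroup.centralizer ({g} : Set SL) => χ c) (fun c => (θ c : ℂ)) =
        classInner (fun c => K * ((Fintype.card F : ℂ) + 1) * δ c + b * (θ₀ c : ℂ)) (fun c => (θ c : ℂ)) := by
      intro θ
      have e1 : classInner (fun c => K * ((Fintype.card F : ℂ) + 1) * δ c + b * (θ₀ c : ℂ)) (fun c => (θ c : ℂ)) =
          K * ((Fintype.card F : ℂ) + 1) * classInner δ (fun c => (θ c : ℂ)) + b * classInner (fun c => (θ₀ c : ℂ)) (fun c => (θ c : ℂ)) := by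
        have := Cfsg.Agent.Characters.Core.classInner_add_left ((K * ((Fintype.card F : ℂ) + 1)) • δ) (b • (fun c => (θ₀ c : ℂ))) (fun c => (θ c : ℂ))
        rw [Cfsg.Agent.Characters.Core.classInner_smul_left, Cfsg.Agent.Characters.Core.classInner_smul_left] at this
        exact this
      rw [e1, hδ, hθθ, classInner_torus hg hcl]
      by_cases hpar : (θ ⟨z0, z0_mem g⟩ : ℂ) = ε
      · rw [if_pos hpar]
        by_cases h0 : θ = θ₀
        · subst h0
          rw [if_pos rfl, hb, if_pos hpar]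
          field_simp
          ring
        · rw [if_neg h0, classInner_I_irr h2 hg hχ hε1 hε h1 hX hpar (by
            by_cases hsq : θ ^ 2 = 1
            · left; exact (hθ₀ θ hsq).resolve_right h0
            · right; exact hsq), ← hK, map_mul, hKr, map_ofNat]
          field_simp
          ring
      · rw [if_neg hpar, classInner_I_parity hg hcl hε1 hε hpar, map_zero]
        by_cases h0 : θ = θ₀
        · subst h0
          rw [if_pos rfl, hb, if_neg hpar, classInner_I_parity hg hcl hε1 hε hpar, map_zero]; ring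
        · rw [if_neg h0]; ring
    intro c
    have e1 := Cfsg.Agent.H670.RankOne.eq_sum_hom hcomm (fun c : Subgroup.centralizer ({g} : Set SL) => χ c) c
    have e2 := Cfsg.Agent.H670.RankOne.eq_sum_hom hcomm (fun c => K * ((Fintype.card F : ℂ) + 1) * δ c + b * (θ₀ c : ℂ)) c
    refine e1.trans (Eq.trans ?_ e2.symm)
    exact Finset.sum_congr rfl fun θ _ => by rw [hin θ]
  refine ⟨b, ?_, ?_, ?_, ?_⟩
  · intro c hc hNS
    rw [show χ c = χ ((⟨c, hc⟩ : Subgroup.centralizer ({g} : Set SL)) : SL) from rfl, hzero]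
    simp only [δ]
    rw [if_pos hNS]; ring
  · have := hzero 1
    rw [hδ1, map_one, Units.val_one] at this
    simpa using this
  · intro hne
    rw [hb, if_neg hne, classInner_I_parity hg hcl hε1 hε hne, map_zero, sub_zero]
  · intro he
    rw [hb, if_pos he]

end Cfsg.Agent.H984.SLTwo
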