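import Mathlib
import Cfsg.Agent.H984.SLMain

/-!
# Classification of the irreducible characters of `SL₂` over a finite field of odd order
-/

set_option autoImplicit false
set_option linter.unusedSectionVars false

namespace Cfsg.Agent.H984.SLTwo

open Matrix Cfsg Cfsg.Agent.H984.EigCount
open scoped ComplexConjugate

variable {F : Type*} [Field F] [DecidableEq F] [Fintype F]

local notation "SL" => Matrix.SpecialLinearGroup (Fin 2) F
local notation "M₂" => Matrix (Fin 2) (Fin 2) F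

variable {g : Matrix.SpecialLinearGroup (Fin 2) F}

/-- The quadratic character of a cyclic group of even order. -/
theorem exists_quad {C : Type*} [Group C] [Finite C] [hC : IsCyclic C] {m : ℕ} (hm : Nat.card C = 2 * m) :
    ∃ θ₀ : C →* ℂˣ, θ₀ ^ 2 = 1 ∧ (∀ θ : C →* ℂˣ, θ ^ 2 = 1 → θ = 1 ∨ θ = θ₀) ∧
      (∀ c : C, (c ^ m = 1 → (θ₀ c : ℂ) = 1) ∧ (c ^ m ≠ 1 → (θ₀ c : ℂ) = -1)) := by
  obtain ⟨γ, hγ⟩ := IsCyclic.exists_generator (α := C)
  have hord : orderOf γ = 2 * m := by rw [orderOf_eq_card_of_forall_mem_zpowers hγ, hm]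
  have hm0 : m ≠ 0 := by
    rintro rfl
    have := Nat.card_pos (α := C)
    omega
  have hdvd : orderOf (-1 : ℂˣ) ∣ orderOf γ := by
    rw [hord]
    exact (orderOf_dvd_of_pow_eq_one (by norm_num)).trans (Dvd.intro _ rfl)
  have hgen := monoidHomOfForallMemZpowers_apply_gen hγ hdvd
  set θ₀ := monoidHomOfForallMemZpowers hγ hdvd with hθ₀
  refine ⟨θ₀, ?_, ?_, ?_⟩
  · ext c
    obtain ⟨n, rfl⟩ := Subgroup.mem_zpowers_iff.mp (hγ c)
    rw [MonoidHom.pow_apply, map_zpow, hgen, ← zpow_natCast, ← _root_.zpow_mul, mul_comm, _root_.zpow_mul]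
    norm_num
  · intro θ hθ
    have h1 : θ γ = 1 ∨ θ γ = -1 := by
      have h2 : θ γ ^ 2 = 1 := by rw [← MonoidHom.pow_apply, hθ, MonoidHom.one_apply]
      have h3 : ((θ γ : ℂˣ) : ℂ) * (θ γ : ℂ) = 1 := by rw [← Units.val_mul, ← sq, h2, Units.val_one]
      rcases mul_self_eq_one_iff.mp h3 with h | h
      · left; exact Units.ext h
      · right; exact Units.ext (by simpa using h)
    rcases h1 with h | h
    · left
      ext c
      obtain ⟨n, rfl⟩ := Subgroup.mem_zpowers_iff.mp (hγ c)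
      rw [map_zpow, h, _root_.one_zpow, MonoidHom.one_apply]
    · right
      ext c
      obtain ⟨n, rfl⟩ := Subgroup.mem_zpowers_iff.mp (hγ c)
      rw [map_zpow, map_zpow, h, hgen]
  · intro c
    obtain ⟨n, rfl⟩ := Subgroup.mem_zpowers_iff.mp (hγ c)
    have key : (γ ^ n) ^ m = 1 ↔ Even n := by
      rw [← zpow_natCast, ← _root_.zpow_mul, ← orderOf_dvd_iff_zpow_eq_one, hord]
      push_cast
      rw [mul_dvd_mul_iff_right (by exact_mod_cast hm0), even_iff_two_dvd]
    rw [map_zpow, hgen]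
    constructor
    · intro h
      rw [key] at h
      rw [h.neg_one_zpow, Units.val_one]
    · intro h
      rw [Ne, key, Int.not_even_iff_odd] at h
      rw [h.neg_one_zpow, Units.val_neg, Units.val_one]

/-- values of the quadratic character of the field. -/
theorem quad_values {α : MulChar F ℂ} (hinv : α⁻¹ = α) (h1 : α ≠ 1) {a : F} (ha : a ≠ 0) :
    (IsSquare a → α a = 1) ∧ (¬ IsSquare a → α a = -1) := by
  have hsq : ∀ b : Fˣ, α b * α b = 1 := by
    intro b
    have := congrArg (fun f : MulChar F ℂ => f b) (mul_inv_cancel α)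
    simp only [MulChar.mul_apply, hinv, MulChar.one_apply_coe] at this
    exact this
  have hs : ∀ b : F, b ≠ 0 → IsSquare b → α b = 1 := by
    rintro b hb ⟨c, rfl⟩
    have hc : c ≠ 0 := by rintro rfl; simp at hb
    rw [map_mul]
    exact hsq (Units.mk0 c hc)
  refine ⟨hs a ha, ?_⟩
  intro hns
  obtain ⟨b, hb⟩ : ∃ b : Fˣ, α b ≠ 1 := by
    by_contra h
    push Not at h
    apply h1
    ext b
    rw [h b, MulChar.one_apply_coe]
  have hbn : ¬ IsSquare (b : F) := fun h => hb (hs b b.ne_zero h)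
  have hb1 : α b = -1 := (mul_self_eq_one_iff.mp (hsq b)).resolve_left hb
  have hab := hs (a * b) (mul_ne_zero ha b.ne_zero) (isSquare_mul_of_not hns hbn)
  rw [map_mul, hb1] at hab
  linear_combination -hab

theorem z0_pow_even {m : ℕ} (h : Even m) : (z0 : SL) ^ m = 1 := by
  obtain ⟨k, rfl⟩ := h
  rw [← two_mul, pow_mul, sq, z0_mul_self, one_pow]

theorem z0_pow_odd {m : ℕ} (h : Odd m) : (z0 : SL) ^ m = z0 := by
  obtain ⟨k, rfl⟩ := h
  rw [pow_succ, pow_mul, sq, z0_mul_self, one_pow, one_mul]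

theorem card_cent_two_mul (hg : Ell (g : M₂)) {m : ℕ} (hm : Fintype.card F = 2 * m + 1) :
    Nat.card (Subgroup.centralizer ({g} : Set SL)) = 2 * (m + 1) := by
  rw [card_cent_ell g hg, hm]; ring

/-- the two quadratic characters have opposite parity -/
theorem parity_ne (h2 : ringChar F ≠ 2) {m : ℕ} (hm : Fintype.card F = 2 * m + 1)
    {θ₀ : Subgroup.centralizer ({g} : Set SL) →* ℂˣ}
    (hv : ∀ c : Subgroup.centralizer ({g} : Set SL), (c ^ (m + 1) = 1 → (θ₀ c : ℂ) = 1) ∧ (c ^ (m + 1) ≠ 1 → (θ₀ c : ℂ) = -1))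
    {α : MulChar F ℂ} (hinv : α⁻¹ = α) (h1 : α ≠ 1) : (θ₀ ⟨z0, z0_mem g⟩ : ℂ) ≠ α (-1) := by
  have hne : (-1 : F) ≠ 0 := by simp
  have hq := quad_values hinv h1 hne
  by_cases hodd : Odd (m + 1)
  · -- q = 1 mod 4
    have hz : (⟨z0, z0_mem g⟩ : Subgroup.centralizer ({g} : Set SL)) ^ (m + 1) ≠ 1 := by
      intro h
      have := congrArg Subtype.val h
      simp only [Subgroup.coe_pow, OneMemClass.coe_one] at this
      rw [z0_pow_odd hodd] at this
      exact z0_ne_one h2 this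
    rw [(hv _).2 hz, hq.1 (by
      rw [FiniteField.isSquare_neg_one_iff, hm]
      obtain ⟨k, hk⟩ := hodd
      omega)]
    norm_num
  · rw [Nat.not_odd_iff_even] at hodd
    have hz : (⟨z0, z0_mem g⟩ : Subgroup.centralizer ({g} : Set SL)) ^ (m + 1) = 1 := by
      apply Subtype.ext
      simp only [Subgroup.coe_pow, OneMemClass.coe_one]
      exact z0_pow_even hodd
    rw [(hv _).1 hz, hq.2 (by
      rw [FiniteField.isSquare_neg_one_iff, hm]
      obtain ⟨k, hk⟩ := hodd
      omega)]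
    norm_num

/-- The constituents of the function induced from the quadratic character. -/
theorem half_values (h2 : ringChar F ≠ 2) {m : ℕ} (hm : Fintype.card F = 2 * m + 1) (hg : Ell (g : M₂)) {χ : SL → ℂ}
    (hχ : IsIrrCharacter SL χ) {α : MulChar F ℂ} (hinv : α⁻¹ = α) (hα : α ≠ 1) (h1 : classInner χ (R α) = 1)
    (h0 : ∀ β, β ≠ α → classInner χ (R β) = 0) :
    χ 1 = (m : ℂ) + 1 ∧ ∀ c ∈ Subgroup.centralizer ({g} : Set SL), NS (c : M₂) → χ c = 0 := by
  have hcl := Cfsg.Agent.Characters.Core.isIrr_isClassFunction hχ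
  have hcyc := isCyclic_cent g hg
  obtain ⟨θ₀, hθ1, hθ2, hθ3⟩ := exists_quad (C := Subgroup.centralizer ({g} : Set SL)) (card_cent_two_mul hg hm)
  obtain ⟨ε, hε1, hε⟩ := exists_parity hχ
  have hjac : ∀ a, jac χ a = α a := fun a => by rw [jac_eq_single hcl α h0, h1, one_mul]
  have hj1 : jac χ 1 = 1 := by rw [hjac]; simp
  have hεα : α (-1) = ε := by
    have := jac_neg_one hε
    rw [hj1, hjac, mul_one] at this
    simpa using this
  obtain ⟨b, hb1, hb2, hb3, _⟩ := torus_values h2 hg hχ hε1 hε (h0 1 hα.symm) (by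
    rintro θ β hpar hθ rfl
    rw [jac_X hg hpar] at hj1
    exact zero_ne_one hj1) θ₀ hθ2
  have hb : b = 0 := hb3 (by rw [← hεα]; exact parity_ne h2 hm hθ3 hinv hα)
  subst hb
  refine ⟨?_, ?_⟩
  · rw [hj1, add_zero, hm] at hb2
    have hm0 : (m : ℂ) ≠ 0 := by
      have := two_le_card (F := F)
      have : m ≠ 0 := by omega
      exact_mod_cast this
    push_cast at hb2
    have h5 : (2 * (m : ℂ) + 1 - 1) = 2 * m := by ring
    rw [h5] at hb2
    field_simp at hb2
    linear_combination (-1/2) * hb2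
  · intro c hc hNS
    rw [hb1 c hc hNS, zero_mul]

/-- Cuspidal characters. -/
theorem cusp_values (h2 : ringChar F ≠ 2) {m : ℕ} (hm : Fintype.card F = 2 * m + 1) (hg : Ell (g : M₂)) {χ : SL → ℂ}
    (hχ : IsIrrCharacter SL χ) (h0 : ∀ β : MulChar F ℂ, classInner χ (R β) = 0) :
    (∃ (θ : Subgroup.centralizer ({g} : Set SL) →* ℂˣ) (α : MulChar F ℂ), α (-1) = (θ ⟨z0, z0_mem g⟩ : ℂ) ∧
      θ ^ 2 ≠ 1 ∧ χ = X θ α) ∨
    (χ 1 = m ∧ ∀ c ∈ Subgroup.centralizer ({g} : Set SL), NS (c : M₂) →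
      (c ^ (m + 1) = 1 → χ c = -1) ∧ (c ^ (m + 1) ≠ 1 → χ c = 1)) := by
  classical
  have hcl := Cfsg.Agent.Characters.Core.isIrr_isClassFunction hχ
  have hcyc := isCyclic_cent g hg
  by_cases hX : ∃ (θ : Subgroup.centralizer ({g} : Set SL) →* ℂˣ) (α : MulChar F ℂ), α (-1) = (θ ⟨z0, z0_mem g⟩ : ℂ) ∧
      θ ^ 2 ≠ 1 ∧ χ = X θ α
  · exact Or.inl hX
  right
  push Not at hX
  obtain ⟨θ₀, hθ1, hθ2, hθ3⟩ := exists_quad (C := Subgroup.centralizer ({g} : Set SL)) (card_cent_two_mul hg hm)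
  obtain ⟨ε, hε1, hε⟩ := exists_parity hχ
  have hj1 : jac χ 1 = 0 := jac_eq_zero hcl h0 1
  have hm0 : (m : ℂ) ≠ 0 := by
    have := two_le_card (F := F)
    have : m ≠ 0 := by omega
    exact_mod_cast this
  obtain ⟨b, hb1, hb2, hb3, hb4⟩ := torus_values h2 hg hχ hε1 hε (h0 1) hX θ₀ hθ2
  rw [hj1, sub_zero, hm] at hb2
  have h5 : ((2 * m + 1 : ℕ) : ℂ) - 1 = 2 * m := by push_cast; ring
  have h5' : ((2 * m + 1 : ℕ) : ℂ) + 1 = 2 * (m + 1) := by push_cast; ring
  rw [h5, h5'] at hb2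
  have hb : b = -(χ 1 / m) := by
    field_simp at hb2 ⊢
    linear_combination -hb2
  have hχ1 := Cfsg.Agent.Characters.Core.isIrr_apply_one_ne_zero hχ
  have hbne : b ≠ 0 := by
    rw [hb]
    exact neg_ne_zero.mpr (div_ne_zero hχ1 hm0)
  have hpar : (θ₀ ⟨z0, z0_mem g⟩ : ℂ) = ε := by
    by_contra h
    exact hbne (hb3 h)
  have hI : classInner (I θ₀) χ = 0 := by
    have := hb4 hpar
    rw [hj1, sub_zero, hm, h5, hb] at this
    have h6 : conj (classInner (I θ₀) χ) = 0 := by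
      have h7 : 2 * (χ 1 / (2 * (m : ℂ))) = χ 1 / m := by field_simp
      rw [h7] at this
      linear_combination -this
    exact (map_eq_zero _).mp h6
  obtain ⟨α, hα, _⟩ := exists_alpha h2 hε1
  have hparα : α (-1) = (θ₀ ⟨z0, z0_mem g⟩ : ℂ) := by rw [hα, hpar]
  have hA : classInner (A α) χ = χ 1 / m := by
    rw [classInner_A_irr h2 hχ hε1 hε hα, hj1, sub_zero, hm, h5]
    field_simp
  -- bounded by Bessel
  have hXX : classInner (X θ₀ α) (X θ₀ α) = ((2 : ℝ) : ℂ) := by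
    rw [classInner_X, classInner_A_X h2 hg hparα, classInner_I_X h2 hg hparα (isClassFunction_X _ _) (fun _ _ => rfl),
      if_pos hθ1]
    norm_num
  have hbes := bessel (isClassFunction_X θ₀ α) hχ hXX
  rw [classInner_X, hI, sub_zero, hA] at hbes
  -- integrality
  obtain ⟨n, hn, hn'⟩ := Cfsg.Agent.Characters.Core.isIrr_apply_one hχ
  have hχc := Cfsg.Agent.Characters.Core.isIrr_isCharacter hχ
  obtain ⟨n1, hn1, _⟩ := nat_of_classInner (Cfsg.Agent.Characters.Core.isCharacter_mul (isCharacter_R (1 : MulChar F ℂ)) (isCharacter_R α)) hχc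
  obtain ⟨n2, hn2, _⟩ := nat_of_classInner (isCharacter_R α) hχc
  have hint : χ 1 / m = ((n1 : ℤ) - 2 * n2 : ℤ) := by
    rw [← hA]
    have e : A α = R (1 : MulChar F ℂ) * R α - (R α + R α) := by
      funext x
      simp only [A, Pi.sub_apply, Pi.mul_apply, Pi.add_apply]
      ring
    rw [e, Cfsg.Agent.Characters.Core.classInner_sub_left, Cfsg.Agent.Characters.Core.classInner_add_left, hn1, hn2]
    push_cast; ring
  obtain ⟨k, hk⟩ : ∃ k : ℤ, k = (n1 : ℤ) - 2 * n2 := ⟨_, rfl⟩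
  rw [← hk] at hint
  have hkn : (k : ℂ) * m = n := by
    rw [← hint, hn']; field_simp
  have hkn' : k * m = n := by exact_mod_cast hkn
  have hkpos : 0 < k := by
    have : (0 : ℤ) < k * m := by rw [hkn']; exact_mod_cast hn
    by_contra hneg
    push Not at hneg
    have : k * m ≤ 0 := mul_nonpos_of_nonpos_of_nonneg hneg (by positivity)
    omega
  have hk2 : k ^ 2 ≤ 2 := by
    rw [hint] at hbes
    have : ‖(k : ℂ)‖ ^ 2 = ((k ^ 2 : ℤ) : ℝ) := by
      rw [Complex.norm_intCast]; push_cast; exact sq_abs _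
    rw [this] at hbes
    exact_mod_cast hbes
  have hk1 : k = 1 := by nlinarith
  have hb' : b = -1 := by rw [hb, hint, hk1]; norm_num
  refine ⟨?_, ?_⟩
  · rw [hk1] at hint
    field_simp at hint
    simpa using hint
  · intro c hc hNS
    rw [hb1 c hc hNS, hb']
    have := hθ3 ⟨c, hc⟩
    constructor
    · intro h
      rw [this.1 (Subtype.ext (by simpa using h))]; ring
    · intro h
      rw [this.2 (fun h' => h (by simpa using congrArg Subtype.val h'))]; ring

end Cfsg.Agent.H984.SLTwo
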