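import Mathlib
import Cfsg.Agent.H984.SLFin

/-!
# The character table of `SL₂` over a finite field of odd order (semisimple elements)
-/

set_option autoImplicit false
set_option linter.unusedSectionVars false

namespace Cfsg.Agent.H984.SLTwo

open Matrix Cfsg Cfsg.Agent.H984.EigCount
open scoped ComplexConjugate

variable {F : Type*} [Field F] [DecidableEq F] [Fintype F]

local notation "SL" => Matrix.SpecialLinearGroup (Fin 2) F
local notation "M₂" => Matrix (Fin 2) (Fin 2) F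

theorem self_mem_cent (g : SL) : g ∈ Subgroup.centralizer ({g} : Set SL) := by
  rw [Subgroup.mem_centralizer_singleton_iff]

/-- The five families of irreducible characters. -/
theorem classify (h2 : ringChar F ≠ 2) {m : ℕ} (hm : Fintype.card F = 2 * m + 1) {χ : SL → ℂ}
    (hχ : IsIrrCharacter SL χ) :
    (∃ α : MulChar F ℂ, α⁻¹ ≠ α ∧ χ = R α ∧ χ 1 = ((2 * m + 2 : ℕ) : ℂ)) ∨
    (χ = 1 ∧ χ 1 = ((1 : ℕ) : ℂ)) ∨
    ((χ = fun x => R (1 : MulChar F ℂ) x - 1) ∧ χ 1 = ((2 * m + 1 : ℕ) : ℂ)) ∨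
    (χ 1 = ((m + 1 : ℕ) : ℂ) ∧ (∀ g : SL, Ell (g : M₂) → χ g = 0) ∧
      ∀ a : Fˣ, a⁻¹ ≠ a → ∀ x, (IsSquare (a : F) → χ (upp a x) = 1) ∧ (¬ IsSquare (a : F) → χ (upp a x) = -1)) ∨
    ((∀ a : Fˣ, a⁻¹ ≠ a → ∀ x, χ (upp a x) = 0) ∧
      ((χ 1 = ((2 * m : ℕ) : ℂ) ∧ ∀ g : SL, Ell (g : M₂) →
          ∃ (θ : Subgroup.centralizer ({g} : Set SL) →* ℂˣ) (α : MulChar F ℂ),
            α (-1) = (θ ⟨z0, z0_mem g⟩ : ℂ) ∧ θ ^ 2 ≠ 1 ∧ χ = X θ α) ∨
       (χ 1 = ((m : ℕ) : ℂ) ∧ ∀ g : SL, Ell (g : M₂) → (g ^ (m + 1) = 1 → χ g = -1) ∧ (g ^ (m + 1) ≠ 1 → χ g = 1)))) := by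
  have hcl := Cfsg.Agent.Characters.Core.isIrr_isClassFunction hχ
  have hR1 : ∀ α : MulChar F ℂ, R α 1 = ((2 * m + 2 : ℕ) : ℂ) := by
    intro α
    rw [← upp_one_zero, R_upp_zero α inv_one, hm]
    simp only [Units.val_one, map_one]
    push_cast; ring
  rcases irr_cases hχ with ⟨α, hα, rfl⟩ | rfl | rfl | ⟨α, hinv, hα, h1, h0⟩ | h0
  · exact Or.inl ⟨α, hα, rfl, hR1 α⟩
  · exact Or.inr (Or.inl ⟨rfl, by simp⟩)
  · refine Or.inr (Or.inr (Or.inl ⟨rfl, ?_⟩))
    simp only [hR1]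
    push_cast; ring
  · refine Or.inr (Or.inr (Or.inr (Or.inl ?_)))
    obtain ⟨g₀, hg₀⟩ := exists_ell (F := F)
    refine ⟨?_, ?_, ?_⟩
    · rw [(half_values h2 hm hg₀ hχ hinv hα h1 h0).1]; push_cast; ring
    · intro g hg
      exact (half_values h2 hm hg hχ hinv hα h1 h0).2 g (self_mem_cent g) hg.NS
    · intro a ha x
      rw [apply_split hcl ha x, jac_eq_single hcl α h0, h1, one_mul]
      exact quad_values hinv hα a.ne_zero
  · refine Or.inr (Or.inr (Or.inr (Or.inr ⟨?_, ?_⟩)))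
    · intro a ha x
      rw [apply_split hcl ha x, jac_eq_zero hcl h0]
    · have hm0 : m ≠ 0 := by
        have := two_le_card (F := F)
        omega
      obtain ⟨g₀, hg₀⟩ := exists_ell (F := F)
      rcases cusp_values h2 hm hg₀ hχ h0 with ⟨θ, α, hpar, hθ, hX⟩ | ⟨h1, _⟩
      · left
        have hdeg : χ 1 = ((2 * m : ℕ) : ℂ) := by
          rw [hX, X_one hg₀, hm]; push_cast; ring
        refine ⟨hdeg, fun g hg => ?_⟩
        rcases cusp_values h2 hm hg hχ h0 with h | ⟨h1, _⟩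
        · exact h
        · exfalso
          rw [hdeg] at h1
          have : 2 * m = m := by exact_mod_cast h1
          omega
      · right
        refine ⟨h1, fun g hg => ?_⟩
        rcases cusp_values h2 hm hg hχ h0 with ⟨θ, α, hpar, hθ, hX⟩ | ⟨_, h3⟩
        · exfalso
          have hdeg : χ 1 = ((2 * m : ℕ) : ℂ) := by
            rw [hX, X_one hg, hm]; push_cast; ring
          rw [hdeg] at h1
          have : 2 * m = m := by exact_mod_cast h1
          omega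
        · exact h3 g (self_mem_cent g) hg.NS

/-- For `q = 3` the characters of order four of the torus vanish off the centre. -/
theorem theta_three (hq : Fintype.card F = 3) {g : SL} (hg : Ell (g : M₂))
    {θ : Subgroup.centralizer ({g} : Set SL) →* ℂˣ} (hθ : θ ^ 2 ≠ 1) {c : SL}
    (hc : c ∈ Subgroup.centralizer ({g} : Set SL)) (hNS : NS (c : M₂)) :
    (θ ⟨c, hc⟩ : ℂ) + (((θ ⟨c, hc⟩)⁻¹ : ℂˣ) : ℂ) = 0 := by
  classical
  have hcard : Nat.card (Subgroup.centralizer ({g} : Set SL)) = 4 := by rw [card_cent_ell g hg, hq]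
  -- squares are central
  have hsq : ∀ d : Subgroup.centralizer ({g} : Set SL), d * d = 1 ∨ d * d = ⟨z0, z0_mem g⟩ := by
    intro d
    have h4 : (d * d) * (d * d) = 1 := by
      have : d ^ 4 = 1 := by rw [← hcard]; exact pow_card_eq_one'
      calc (d * d) * (d * d) = d ^ 4 := by rw [← sq, ← sq, ← pow_mul]
        _ = 1 := this
    have hnn : ¬ NS (((d * d : Subgroup.centralizer ({g} : Set SL)) : SL) : M₂) := by
      intro hns
      apply ne_inv_of_NS hg (d * d).2 hns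
      rw [eq_inv_iff_mul_eq_one]
      exact congrArg Subtype.val h4
    rcases scalar_cases hnn with h | h
    · left; rw [upp_one_zero] at h; exact Subtype.ext h
    · right; exact Subtype.ext h
  have hz : (θ ⟨z0, z0_mem g⟩ : ℂ) = -1 := by
    rcases hom_z0_cases θ with h | h
    · exfalso
      apply hθ
      ext d
      rw [MonoidHom.pow_apply, sq, ← map_mul]
      rcases hsq d with h' | h'
      · rw [h', map_one]; rfl
      · rw [h', h]; rfl
    · exact h
  have hcc : (⟨c, hc⟩ : Subgroup.centralizer ({g} : Set SL)) * ⟨c, hc⟩ = ⟨z0, z0_mem g⟩ := by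
    refine (hsq ⟨c, hc⟩).resolve_left ?_
    intro h
    apply ne_inv_of_NS hg hc hNS
    rw [eq_inv_iff_mul_eq_one]
    exact congrArg Subtype.val h
  have h1 : (θ ⟨c, hc⟩ : ℂ) * (θ ⟨c, hc⟩ : ℂ) = -1 := by
    rw [← Units.val_mul, ← map_mul, hcc, hz]
  have hne : (θ ⟨c, hc⟩ : ℂ) ≠ 0 := Units.ne_zero _
  rw [Units.val_inv_eq_inv_val]
  field_simp
  linear_combination h1

end Cfsg.Agent.H984.SLTwo
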