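import Mathlib
import Cfsg.Agent.H984.SLTable

/-!
# Cyclic subgroups of order `q + 1` of `SL₂(q)`
-/

set_option autoImplicit false
set_option linter.unusedSectionVars false

namespace Cfsg.Agent.H984.SLTwo

open Matrix Cfsg Cfsg.Agent.H984.EigCount
open scoped ComplexConjugate

variable {F : Type*} [Field F] [DecidableEq F] [Fintype F]

local notation "SL" => Matrix.SpecialLinearGroup (Fin 2) F
local notation "M₂" => Matrix (Fin 2) (Fin 2) F

theorem orderOf_dvd_of_not_ell {g : SL} (hg : ¬ Ell (g : M₂)) :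
    orderOf g ∣ (Fintype.card F - 1) * Fintype.card F := by
  unfold Ell at hg
  push Not at hg
  obtain ⟨c, v, hv, h⟩ := hg
  have h1 := (conj_col (withCol v hv 0) g c).mpr (by rw [col_withCol]; exact h)
  have hB : (withCol v hv 0)⁻¹ * g * withCol v hv 0 ∈ Bor F := mem_Bor.mpr h1.1
  have h2 : orderOf ((withCol v hv 0)⁻¹ * g * withCol v hv 0) = orderOf g := by
    have hc : IsConj g ((withCol v hv 0)⁻¹ * g * withCol v hv 0) :=
      isConj_iff.mpr ⟨(withCol v hv 0)⁻¹, by rw [inv_inv]⟩
    obtain ⟨y, hy⟩ := isConj_iff.mp hc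
    rw [← hy, ← MulAut.conj_apply, MulEquiv.orderOf_eq]
  rw [← h2, ← card_Bor]
  have h3 := orderOf_dvd_natCard (⟨_, hB⟩ : Bor F)
  rwa [Subgroup.orderOf_mk] at h3

/-- A cyclic subgroup of order `q + 1` is a non-split torus. -/
theorem exists_cent_eq (h2 : 2 < Fintype.card F) (C : Subgroup SL) (hC : IsCyclic C) (hcard : Nat.card C = Fintype.card F + 1) :
    ∃ g : SL, Ell (g : M₂) ∧ C = Subgroup.centralizer ({g} : Set SL) := by
  obtain ⟨γ, hγ⟩ := IsCyclic.exists_generator (α := C)
  have hord : orderOf (γ : SL) = Fintype.card F + 1 := by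
    rw [Subgroup.orderOf_coe, orderOf_eq_card_of_forall_mem_zpowers hγ, hcard]
  have hell : Ell ((γ : SL) : M₂) := by
    by_contra hn
    have h := orderOf_dvd_of_not_ell hn
    rw [hord] at h
    have hcop : Nat.Coprime (Fintype.card F + 1) (Fintype.card F) := by
      rw [Nat.coprime_self_add_left]; exact Nat.coprime_one_left _
    have h3 := Nat.le_of_dvd (by omega) (hcop.dvd_of_dvd_mul_right h)
    omega
  refine ⟨γ, hell, ?_⟩
  have hle : C ≤ Subgroup.centralizer ({(γ : SL)} : Set SL) := by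
    intro c hc
    rw [Subgroup.mem_centralizer_singleton_iff]
    have := (IsCyclic.isMulCommutative (α := C)).is_comm.comm ⟨c, hc⟩ γ
    exact congrArg Subtype.val this
  apply Subgroup.eq_of_le_of_card_ge hle
  rw [card_cent_ell _ hell, hcard]

theorem not_NS_of_mem_center {z : SL} (hz : z ∈ Subgroup.center SL) : ¬ NS (z : M₂) := by
  rw [Matrix.SpecialLinearGroup.mem_center_iff] at hz
  obtain ⟨r, _, hr⟩ := hz
  rw [← hr]
  unfold NS
  simp

theorem NS_of_notMem_center {z : SL} (hz : z ∉ Subgroup.center SL) : NS (z : M₂) := by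
  by_contra h
  apply hz
  rw [Subgroup.mem_center_iff]
  intro x
  have := mem_cent_of_not_NS (g := x) h
  rw [Subgroup.mem_centralizer_singleton_iff] at this
  exact this.symm

/-- A character of order not dividing two of a torus exists when `q = 3`. -/
theorem exists_theta_three (hq : Fintype.card F = 3) {g : SL} (hg : Ell (g : M₂)) :
    ∃ θ : Subgroup.centralizer ({g} : Set SL) →* ℂˣ, θ ^ 2 ≠ 1 := by
  have hcyc := isCyclic_cent g hg
  obtain ⟨γ, hγ⟩ := IsCyclic.exists_generator (α := Subgroup.centralizer ({g} : Set SL))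
  have hord : orderOf γ = 4 := by
    rw [orderOf_eq_card_of_forall_mem_zpowers hγ, card_cent_ell g hg, hq]
  have hdvd : orderOf (Units.mk0 Complex.I Complex.I_ne_zero) ∣ orderOf γ := by
    rw [hord]
    apply orderOf_dvd_of_pow_eq_one
    apply Units.ext
    rw [Units.val_pow_eq_pow_val, Units.val_mk0, Complex.I_pow_four, Units.val_one]
  refine ⟨monoidHomOfForallMemZpowers hγ hdvd, fun h => ?_⟩
  have h1 := congrArg (fun f : Subgroup.centralizer ({g} : Set SL) →* ℂˣ => ((f γ : ℂˣ) : ℂ)) h
  simp only [MonoidHom.pow_apply, monoidHomOfForallMemZpowers_apply_gen, MonoidHom.one_apply, Units.val_one,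
    Units.val_pow_eq_pow_val, Units.val_mk0, Complex.I_sq] at h1
  norm_num at h1

end Cfsg.Agent.H984.SLTwo
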